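import Groth.Agent.AlgSpLib.AffineDescent
import Groth.Prelude.Def_SGA3x
import Groth.Agent.RedRankLib.Tori
import Mathlib

/-!
Tori are smooth.
-/

set_option autoImplicit false
set_option maxHeartbeats 1000000

universe u

open AlgebraicGeometry CategoryTheory Limits

namespace Groth.Agent.TorusLift

theorem exists_units_lift {B : Type u} [CommRing B] {I : Ideal B} (hI : I ^ 2 = ⊥) (x : (B ⧸ I)ˣ) :
    ∃ y : Bˣ, Ideal.Quotient.mk I y = x := by
  obtain ⟨b, hb⟩ := Ideal.Quotient.mk_surjective (x : B ⧸ I)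
  obtain ⟨c, hc⟩ := Ideal.Quotient.mk_surjective ((x⁻¹ : (B ⧸ I)ˣ) : B ⧸ I)
  have h : b * c - 1 ∈ I := by
    rw [← Ideal.Quotient.eq_zero_iff_mem, map_sub, map_mul, hb, hc, map_one, Units.mul_inv, sub_self]
  have hn : IsNilpotent (b * c - 1) := ⟨2, by
    have h2 := Ideal.pow_mem_pow h 2
    rwa [hI, Ideal.mem_bot] at h2⟩
  have hu : IsUnit (b * c) := by
    have h3 := hn.isUnit_add_one
    rwa [sub_add_cancel] at h3
  exact ⟨(isUnit_of_mul_isUnit_left hu).unit, hb⟩

theorem smooth_monoidAlgebra (A : Type u) [CommRing A] (r : ℕ) :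
    Algebra.Smooth A (MonoidAlgebra A (Multiplicative (Fin r → ℤ))) := by
  classical
  haveI : Monoid.FG (Multiplicative (Fin r → ℤ)) := Monoid.fg_iff_add_fg.mpr
    (AddGroup.fg_iff_addMonoid_fg.1 (Module.Finite.iff_addGroup_fg.1 inferInstance))
  refine ⟨Algebra.FormallySmooth.iff_comp_surjective.2 fun B _ _ I hI f => ?_, ?_⟩
  · choose y hy using fun i : Fin r => exists_units_lift hI
      (Units.map f.toMonoidHom ((MonoidAlgebra.of A (Multiplicative (Fin r → ℤ))).toHomUnits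
        (Multiplicative.ofAdd (Pi.single i (1 : ℤ)))))
    let χ : (Fin r → ℤ) →+ Additive Bˣ :=
      { toFun := fun v => ∑ i, v i • Additive.ofMul (y i)
        map_zero' := by simp
        map_add' := fun v w => by simp only [Pi.add_apply, add_zsmul, Finset.sum_add_distrib] }
    let g : Multiplicative (Fin r → ℤ) →* B := (Units.coeHom B).comp (AddMonoidHom.toMultiplicativeLeft χ)
    refine ⟨MonoidAlgebra.lift A B _ g, MonoidAlgebra.algHom_ext (fun v => ?_) (Subsingleton.elim _ _)⟩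
    have key : (Units.map (Ideal.Quotient.mk I).toMonoidHom).comp (AddMonoidHom.toMultiplicativeLeft χ) =
        (Units.map f.toMonoidHom).comp (MonoidAlgebra.of A (Multiplicative (Fin r → ℤ))).toHomUnits := by
      refine AddMonoidHom.toMultiplicativeLeft.symm.injective (AddMonoidHom.functions_ext' _ _ _ fun i => ?_)
      refine AddMonoidHom.ext_int (Units.ext ?_)
      show Ideal.Quotient.mk I ((Additive.toMul (χ (Pi.single i 1)) : Bˣ) : B) = _
      have e : χ (Pi.single i 1) = Additive.ofMul (y i) := by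
        show ∑ k, (Pi.single i (1 : ℤ) : Fin r → ℤ) k • Additive.ofMul (y k) = _
        rw [Finset.sum_eq_single i (fun k _ hk => by simp [Pi.single_eq_of_ne hk]) (fun h => absurd (Finset.mem_univ i) h)]
        simp
      rw [e]
      exact hy i
    have h := congrArg (fun k => ((k v : (B ⧸ I)ˣ) : B ⧸ I)) key
    simpa [g] using h
  · haveI : Algebra.FiniteType ℤ (MonoidAlgebra ℤ (Multiplicative (Fin r → ℤ))) := inferInstance
    haveI : Algebra.FinitePresentation ℤ (MonoidAlgebra ℤ (Multiplicative (Fin r → ℤ))) :=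
      Algebra.FinitePresentation.of_finiteType.1 inferInstance
    exact Algebra.FinitePresentation.equiv
      (MonoidAlgebra.scalarTensorEquiv ℤ A (M := Multiplicative (Fin r → ℤ)))

theorem prop_of_isTorus (P : MorphismProperty Scheme.{u}) [IsZariskiLocalAtTarget P]
    [P.IsStableUnderBaseChange] [P.DescendsAlong (@Surjective ⊓ @Flat ⊓ @QuasiCompact)]
    (hDS : ∀ (T : Scheme.{u}) (r : ℕ), P (Red.DS T (Fin r → ℤ)).hom)
    {S : Scheme.{u}} {H : Over S} [GrpObj H] (hH : Red.IsTorus H) : P H.hom := by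
  obtain ⟨S', f, hflat, hsurj, hcov, hloc⟩ := hH
  refine (IsZariskiLocalAtTarget.iff_of_iSup_eq_top (fun V : S.affineOpens => (V : S.Opens))
    (iSup_affineOpens_eq_top S)).2 fun V => ?_
  obtain ⟨W, hW, hWV⟩ := hcov V V.2
  have hle : W ≤ f ⁻¹ᵁ (V : S.Opens) := fun x hx => by
    show f.base x ∈ ((V : S.Opens) : Set S)
    rw [← hWV]
    exact ⟨x, hx, rfl⟩
  let g : (W : Scheme.{u}) ⟶ (V : S.Opens) := f.resLE V W hle
  haveI : Flat g := by
    haveI : Flat (g ≫ (V : S.Opens).ι) := by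
      rw [Scheme.Hom.resLE_comp_ι]; infer_instance
    exact MorphismProperty.of_postcomp (W' := @IsOpenImmersion) @Flat g (V : S.Opens).ι inferInstance inferInstance
  haveI : Surjective g := ⟨fun v => by
    have hv : v.1 ∈ f.base '' (W : Set S') := by rw [hWV]; exact v.2
    obtain ⟨x, hx, hxv⟩ := hv
    refine ⟨⟨x, hx⟩, Subtype.ext ?_⟩
    have := congrArg (fun m : (W : Scheme.{u}) ⟶ S => m.base ⟨x, hx⟩) (f.resLE_comp_ι hle)
    exact this.trans hxv⟩
  haveI : CompactSpace (W : Scheme.{u}) := isCompact_iff_compactSpace.1 hW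
  haveI : IsAffine (V : S.Opens) := V.2
  haveI : QuasiCompact g := quasiCompact_iff_compactSpace g |>.2 inferInstance
  refine MorphismProperty.of_pullback_snd_of_descendsAlong (P := P)
    (Q := @Surjective ⊓ @Flat ⊓ @QuasiCompact) (f := H.hom ∣_ (V : S.Opens)) (g := g)
    ⟨⟨inferInstance, inferInstance⟩, inferInstance⟩ ?_
  suffices hb : P (pullback.snd H.hom (W.ι ≫ f)) by
    have sq : IsPullback (pullback.fst (H.hom ∣_ (V : S.Opens)) g ≫ (H.hom ⁻¹ᵁ (V : S.Opens)).ι)
        (pullback.snd (H.hom ∣_ (V : S.Opens)) g) H.hom (W.ι ≫ f) := by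
      rw [← f.resLE_comp_ι hle]
      exact (IsPullback.of_hasPullback _ _).paste_horiz (isPullback_morphismRestrict _ _).flip
    have := sq.isoPullback_hom_snd
    rw [← this]
    exact (P.cancel_left_of_respectsIso _ _).2 hb
  choose U hxU r₁ hiso using fun x : (W : Scheme.{u}) => hloc x.1
  refine (IsZariskiLocalAtTarget.iff_of_iSup_eq_top (fun x => W.ι ⁻¹ᵁ U x) (TopologicalSpace.Opens.ext ?_)).2 fun x => ?_
  · refine Set.eq_univ_of_forall fun y => ?_
    simp only [TopologicalSpace.Opens.coe_iSup, Set.mem_iUnion]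
    exact ⟨y, hxU y⟩
  obtain ⟨e⟩ := hiso x
  have h1 : P (pullback.snd H.hom ((U x).ι ≫ f)) := by
    have hw := Over.w ((Grp.forget _).mapIso e).hom
    rw [show pullback.snd H.hom ((U x).ι ≫ f) = (Red.bc ((U x).ι ≫ f) H).hom from rfl]
    have h2 := hDS (U x : Scheme.{u}) (r₁ x)
    let i := (Over.forget _).mapIso ((Grp.forget _).mapIso e)
    exact hw ▸ (P.cancel_left_of_respectsIso i.hom _).2 h2
  let r : ((W.ι ⁻¹ᵁ U x : (W : Scheme.{u}).Opens) : Scheme.{u}) ⟶ U x := W.ι.resLE (U x) _ le_rfl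
  have h3 : P (pullback.snd H.hom (r ≫ (U x).ι ≫ f)) := by
    rw [← pullbackLeftPullbackSndIso_hom_snd H.hom ((U x).ι ≫ f) r |> fun e => (Iso.inv_comp_eq _).2 e.symm]
    exact (P.cancel_left_of_respectsIso _ _).2 (MorphismProperty.pullback_snd _ _ h1)
  have he : r ≫ (U x).ι ≫ f = (W.ι ⁻¹ᵁ U x).ι ≫ W.ι ≫ f := W.ι.resLE_comp_ι_assoc le_rfl f
  have sq : IsPullback ((pullback.snd H.hom (W.ι ≫ f) ⁻¹ᵁ (W.ι ⁻¹ᵁ U x)).ι ≫ pullback.fst H.hom (W.ι ≫ f))
      (pullback.snd H.hom (W.ι ≫ f) ∣_ (W.ι ⁻¹ᵁ U x)) H.hom ((W.ι ⁻¹ᵁ U x).ι ≫ W.ι ≫ f) :=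
    (isPullback_morphismRestrict _ _).flip.paste_horiz (IsPullback.of_hasPullback _ _)
  rw [← he] at sq
  rw [← sq.isoPullback_hom_snd]
  exact (P.cancel_left_of_respectsIso _ _).2 h3

theorem smooth_DS (S : Scheme.{u}) (r : ℕ) : Smooth (Red.DS S (Fin r → ℤ)).hom := by
  have h : Smooth (Red.diag (ULift.{u} ℤ) (Fin r → ℤ)).hom := by
    show Smooth (Spec.map _)
    rw [HasRingHomProperty.Spec_iff (P := @Smooth)]
    exact RingHom.smooth_algebraMap.2 (smooth_monoidAlgebra _ r)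
  exact MorphismProperty.pullback_snd _ _ h

theorem smooth_of_isTorus {S : Scheme.{u}} {T : Over S} [GrpObj T] (hT : Red.IsTorus T) : Smooth T.hom :=
  prop_of_isTorus @Smooth smooth_DS hT

end Groth.Agent.TorusLift
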