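import Groth.Agent.TorusLiftLib.Global

/-!
Central homomorphisms from tori to flat groups of finite presentation lift uniquely along nilpotent ideals.
-/

set_option autoImplicit false
set_option linter.style.haveILetI false
set_option backward.isDefEq.respectTransparency false
set_option maxHeartbeats 2000000
set_option synthInstance.maxHeartbeats 400000
set_option synthInstance.maxSize 4000
set_option maxSynthPendingDepth 4

noncomputable section

universe u

open CategoryTheory CategoryTheory.Limits MonoidalCategory CartesianMonoidalCategory AlgebraicGeometry CoactBr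
open scoped MonObj TensorProduct

attribute [-instance] CategoryTheory.Hom.commGroup

namespace Groth.Agent.TorusLift

attribute [local instance] CoactBr.braidedAlgSpecOf

open Groth.Agent.FreeAct (DA)

/-- A chart on which the torus splits and some integer is invertible. -/
def Good {S : Scheme.{u}} (T : Over S) [GrpObj T] {C : Type u} [CommRing C] (g : Spec (CommRingCat.of C) ⟶ S) : Prop :=
  ∃ (r m : ℕ), 1 < m ∧ IsUnit (m : C) ∧ ∃ e : sp C (DA C (Fin r → ℤ)) ≅ Red.bc g T, IsMonHom e.hom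

/-- Good charts cover every scheme over a trivialising covering. -/
theorem exists_good {S S' Y : Scheme.{u}} {T : Over S} [GrpObj T] (f : S' ⟶ S)
    (hloc : ∀ s' : S', ∃ U : S'.Opens, s' ∈ U ∧ ∃ r : ℕ, Red.IsSplitTorusWith (Fin r → ℤ) (Red.bc (U.ι ≫ f) T))
    (y : Y ⟶ S') (x : Y) : ∃ V : Y.affineOpens, x ∈ (V : Y.Opens) ∧ Good T (C := Γ(Y, V)) (V.2.fromSpec ≫ y ≫ f) := by
  obtain ⟨U, hU, r, ⟨e⟩⟩ := hloc (y x)
  obtain ⟨m, hm1, hmx⟩ : ∃ m : ℕ, 1 < m ∧ x ∈ Y.basicOpen (m : Γ(Y, ⊤)) := by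
    by_contra h
    push_neg at h
    have h2 := h 2 (by norm_num)
    have h3 := h 3 (by norm_num)
    rw [Scheme.mem_basicOpen'' _ _ x] at h2 h3
    simp only [map_natCast] at h2 h3
    rcases IsLocalRing.isUnit_or_isUnit_of_add_one (a := (3 : Y.presheaf.stalk x)) (b := -2) (by norm_num) with h4 | h4
    · exact h3 ⟨trivial, by exact_mod_cast h4⟩
    · exact h2 ⟨trivial, by exact_mod_cast (by simpa using h4)⟩
  obtain ⟨V, hV, hxV, hle⟩ := exists_isAffineOpen_mem_and_subset (U := y ⁻¹ᵁ U ⊓ Y.basicOpen (m : Γ(Y, ⊤))) (x := x)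
    ⟨hU, hmx⟩
  refine ⟨⟨V, hV⟩, hxV, r, m, hm1, ?_, ?_⟩
  · have h := (RingedSpace.isUnit_res_basicOpen Y.toLocallyRingedSpace.toRingedSpace (m : Γ(Y, ⊤))).map
      (Y.presheaf.map (homOfLE (le_trans hle inf_le_right)).op).hom
    change IsUnit ((Y.presheaf.map (homOfLE (le_trans hle inf_le_right)).op).hom
      ((Y.presheaf.map (homOfLE (Y.basicOpen_le (m : Γ(Y, ⊤)))).op).hom (m : Γ(Y, ⊤)))) at h
    simpa only [map_natCast] using h
  · have hr : Set.range (hV.fromSpec ≫ y) ⊆ Set.range U.ι := by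
      rintro _ ⟨z, rfl⟩
      rw [Scheme.Opens.range_ι]
      have hz : hV.fromSpec z ∈ V := by
        have := Set.mem_range_self (f := hV.fromSpec) z
        rwa [hV.range_fromSpec] at this
      exact (hle hz).1
    refine nonempty_dsIso (U.ι ≫ f) e (IsOpenImmersion.lift U.ι (hV.fromSpec ≫ y) hr) _ ?_
    rw [← Category.assoc, IsOpenImmersion.lift_fac, Category.assoc]

section Generic

variable {S S' : Scheme.{u}} {T G : Over S} [GrpObj T] [GrpObj G] (f : S' ⟶ S) [Flat f] [Surjective f]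
  (hcov : ∀ V : S.Opens, IsAffineOpen V → ∃ W : S'.Opens, IsCompact (W : Set S') ∧ f.base '' (W : Set S') = (V : Set S))
  (hloc : ∀ s' : S', ∃ U : S'.Opens, s' ∈ U ∧ ∃ r : ℕ, Red.IsSplitTorusWith (Fin r → ℤ) (Red.bc (U.ι ≫ f) T))
  (Q : ∀ {P : Scheme.{u}} (p : P ⟶ S), (Red.bc p T ⟶ Red.bc p G) → Prop)
  (hQ : ∀ {P' P : Scheme.{u}} (g : P' ⟶ P) {p : P ⟶ S} {q : P' ⟶ S} (h : g ≫ p = q) {v : Red.bc p T ⟶ Red.bc p G},
    Q p v → Q q (DescHom.wmap p v g q h))
  (hex : ∀ {C : Type u} [CommRing C] (q : Spec (CommRingCat.of C) ⟶ S), Good T q →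
    ∃! v : Red.bc q T ⟶ Red.bc q G, IsMonHom v ∧ Q q v)

/-- The good affine charts of the trivialising covering. -/
def chartIdx (T : Over S) [GrpObj T] (f : S' ⟶ S) : Type u :=
  {V : S'.affineOpens // Good T (C := Γ(S', V)) (V.2.fromSpec ≫ f)}

/-- The source of a chart. -/
abbrev chartSrc (i : chartIdx T f) : Scheme.{u} := Spec Γ(S', i.1.1)

/-- The map of a chart. -/
abbrev chartMap (i : chartIdx T f) : chartSrc f i ⟶ S' := i.1.2.fromSpec

omit [GrpObj G] [Flat f] [Surjective f] in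
include hloc in
theorem chartMap_cover (x : S') : ∃ i : chartIdx T f, x ∈ Set.range (chartMap f i) := by
  obtain ⟨V, hx, hV⟩ := exists_good f hloc (𝟙 S') x
  rw [Category.id_comp] at hV
  exact ⟨⟨V, hV⟩, by show x ∈ Set.range V.2.fromSpec; rw [V.2.range_fromSpec]; exact hx⟩

include hcov hloc hQ hex in
/-- Local uniqueness gives uniqueness over any base scheme. -/
theorem eq_of_local {P : Scheme.{u}} (p : P ⟶ S) (v v' : Red.bc p T ⟶ Red.bc p G)
    [IsMonHom v] [IsMonHom v'] (h : Q p v) (h' : Q p v') : v = v' := by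
  let Y := pullback p f
  let I := {V : Y.affineOpens // Good T (C := Γ(Y, V)) (V.2.fromSpec ≫ pullback.snd p f ≫ f)}
  refine ext_of_charts (pullback.fst p f) (DescHom.hcov_pullback_snd f p hcov) (I := I)
    (X := fun i => Spec Γ(Y, i.1.1)) (fun i => i.1.2.fromSpec) (fun x => ?_) v v' fun i => ?_
  · obtain ⟨V, hx, hV⟩ := exists_good f hloc (pullback.snd p f) x
    exact ⟨⟨V, hV⟩, by rw [V.2.range_fromSpec]; exact hx⟩
  let g : Spec Γ(Y, i.1.1) ⟶ P := i.1.2.fromSpec ≫ pullback.fst p f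
  have hgq : g ≫ p = i.1.2.fromSpec ≫ pullback.snd p f ≫ f := by
    simp only [g, Category.assoc, pullback.condition]
  haveI : IsMonHom (DescHom.wmap p v g _ hgq) := DescHom.isMonHom_wmap p v _ _ _
  haveI : IsMonHom (DescHom.wmap p v' g _ hgq) := DescHom.isMonHom_wmap p v' _ _ _
  have key := (hex _ i.2).unique ⟨‹IsMonHom (DescHom.wmap p v g _ hgq)›, hQ g hgq h⟩
    ⟨‹IsMonHom (DescHom.wmap p v' g _ hgq)›, hQ g hgq h'⟩
  exact (cancel_mono (ActBC.bcCompIso g p G hgq).hom).1 ((cancel_epi (ActBC.bcCompIso g p T hgq).inv).1 key)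

include hcov hloc hQ hex in
/-- **Gluing and descent** of locally unique homomorphisms. -/
theorem existsUnique_glue :
    ∃! u : T ⟶ G, IsMonHom u ∧
      ∀ i : chartIdx T f, Q (chartMap f i ≫ f) ((Over.pullback (chartMap f i ≫ f)).map u) := by
  let X : chartIdx T f → Scheme.{u} := chartSrc f
  let w : ∀ i, X i ⟶ S' := chartMap f
  have hw := chartMap_cover f hloc
  have hlocal : ∀ i : chartIdx T f, ∃! v : Red.bc (w i ≫ f) T ⟶ Red.bc (w i ≫ f) G,
      IsMonHom v ∧ Q (w i ≫ f) v := fun i => hex _ i.2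
  choose v hv hvu using hlocal
  have hagree : ∀ (i k : chartIdx T f) ⦃Z : Scheme.{u}⦄ (t : Z ⟶ T.left) (a : Z ⟶ X i) (b : Z ⟶ X k)
      (ha : t ≫ T.hom = a ≫ w i ≫ f) (hb : t ≫ T.hom = b ≫ w k ≫ f),
      pullback.lift t a ha ≫ (v i).left ≫ pullback.fst G.hom (w i ≫ f) =
        pullback.lift t b hb ≫ (v k).left ≫ pullback.fst G.hom (w k ≫ f) := by
    intro i k Z t a b ha hb
    let p : pullback (w i ≫ f) (w k ≫ f) ⟶ S := pullback.fst _ _ ≫ w i ≫ f
    have hp : pullback.snd (w i ≫ f) (w k ≫ f) ≫ w k ≫ f = p := pullback.condition.symm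
    let v₁ := DescHom.wmap (w i ≫ f) (v i) (pullback.fst (w i ≫ f) (w k ≫ f)) p rfl
    let v₂ := DescHom.wmap (w k ≫ f) (v k) (pullback.snd (w i ≫ f) (w k ≫ f)) p hp
    haveI := (hv i).1; haveI := (hv k).1
    haveI : IsMonHom v₁ := DescHom.isMonHom_wmap _ (v i) _ _ _
    haveI : IsMonHom v₂ := DescHom.isMonHom_wmap _ (v k) _ _ _
    have e := eq_of_local f hcov hloc Q hQ hex p v₁ v₂ (hQ _ rfl (hv i).2) (hQ _ hp (hv k).2)
    let c : Z ⟶ pullback (w i ≫ f) (w k ≫ f) := pullback.lift a b (ha.symm.trans hb)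
    have hc : t ≫ T.hom = c ≫ p := by simp [c, p, ha]
    have h := (wmap_point (pullback.fst (w i ≫ f) (w k ≫ f)) _ p rfl (v i) t c hc).symm.trans
      ((congrArg (fun x : Red.bc p T ⟶ Red.bc p G => pullback.lift t c hc ≫ x.left ≫ pullback.fst G.hom p) e).trans
        (wmap_point (pullback.snd (w i ≫ f) (w k ≫ f)) _ p hp (v k) t c hc))
    simpa [c] using h
  obtain ⟨u, hu⟩ := desc_of_charts f hcov w hw v hagree
  have hmul : IsMonHom u := by
    refine ⟨?_, ?_⟩
    · refine ext_of_charts f hcov w hw _ _ fun i => ?_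
      let F := Over.pullback (w i ≫ f)
      haveI := (hv i).1
      have h1 : η[Red.bc (w i ≫ f) T] ≫ v i = η[Red.bc (w i ≫ f) G] := IsMonHom.one_hom (v i)
      rw [← hu i, Functor.obj.η_def, Functor.obj.η_def, Category.assoc] at h1
      rw [F.map_comp]
      exact (cancel_epi _).1 h1
    · refine ext_of_charts f hcov w hw _ _ fun i => ?_
      let F := Over.pullback (w i ≫ f)
      haveI := (hv i).1
      have h1 : μ[Red.bc (w i ≫ f) T] ≫ v i = (v i ⊗ₘ v i) ≫ μ[Red.bc (w i ≫ f) G] := IsMonHom.mul_hom (v i)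
      rw [← hu i, Functor.obj.μ_def, Functor.obj.μ_def, Category.assoc, ← Category.assoc (F.map u ⊗ₘ F.map u),
        Functor.LaxMonoidal.μ_natural, Category.assoc, ← F.map_comp, ← F.map_comp] at h1
      exact (cancel_epi _).1 h1
  refine ⟨u, ⟨hmul, fun i => by rw [hu i]; exact (hv i).2⟩, fun u' hu' => ?_⟩
  refine ext_of_charts f hcov w hw _ _ fun i => ?_
  rw [hu i]
  haveI := hu'.1
  exact hvu i _ ⟨DiagRep.isMonHom_bc_map (w i ≫ f) u', hu'.2 i⟩

end Generic

section Red

variable {S S' S₀ : Scheme.{u}} {T G : Over S} (j : S₀ ⟶ S) (v₀ : Red.bc j T ⟶ Red.bc j G) (f : S' ⟶ S) [Flat f]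
  [Surjective f]
  (hcov : ∀ V : S.Opens, IsAffineOpen V → ∃ W : S'.Opens, IsCompact (W : Set S') ∧ f.base '' (W : Set S') = (V : Set S))
  {I : Type u} {X : I → Scheme.{u}} (w : ∀ i, X i ⟶ S') [∀ i, IsOpenImmersion (w i)] (hw : ∀ x : S', ∃ i, x ∈ Set.range (w i))

include hcov hw in
/-- The reduction can be computed on charts. -/
theorem map_eq_of_lifts (u : T ⟶ G) (h : ∀ i, Lifts j v₀ (w i ≫ f) ((Over.pullback (w i ≫ f)).map u)) :
    (Over.pullback j).map u = v₀ := by
  refine ext_of_charts (pullback.fst j f) (DescHom.hcov_pullback_snd f j hcov)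
    (X := fun i => pullback (pullback.snd j f) (w i)) (fun i => pullback.fst _ _) (fun x => ?_) _ _ fun i => ?_
  · obtain ⟨i, z, hz⟩ := hw (pullback.snd j f x)
    obtain ⟨q, hq, -⟩ := Scheme.Pullback.exists_preimage_pullback (f := pullback.snd j f) (g := w i) x z hz.symm
    exact ⟨i, q, hq⟩
  refine Over.OverMorphism.ext (pullback.hom_ext ?_ ?_)
  · rw [ActBC.pullback_map_left_fst, ActBC.pullback_map_left_fst]
    refine pullback.hom_ext ?_ ?_
    · let g₀ : pullback (pullback.snd j f) (w i) ⟶ S₀ := pullback.fst _ _ ≫ pullback.fst j f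
      let t := pullback.fst (Red.bc j T).hom g₀ ≫ pullback.fst T.hom j
      let a := pullback.snd (Red.bc j T).hom g₀ ≫ pullback.snd (pullback.snd j f) (w i)
      let b := pullback.fst (Red.bc j T).hom g₀ ≫ pullback.snd T.hom j
      have hb : t ≫ T.hom = b ≫ j := by simp only [t, b, Category.assoc, pullback.condition]
      have ha : t ≫ T.hom = a ≫ w i ≫ f := by
        rw [hb]
        have h1 : b = pullback.snd (Red.bc j T).hom g₀ ≫ g₀ := pullback.condition
        rw [h1]
        simp only [g₀, a, Category.assoc, pullback.condition, pullback.condition_assoc]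
      have h' := h i t a b ha hb
      rw [ActBC.pullback_map_left_fst, pullback.lift_fst_assoc] at h'
      have e : pullback.lift t b hb = pullback.fst (Red.bc j T).hom g₀ :=
        pullback.hom_ext (pullback.lift_fst _ _ _) (pullback.lift_snd _ _ _)
      rw [e] at h'
      rw [Category.assoc, Category.assoc, ActBC.pullback_map_left_fst]
      simpa [t] using h'
    · rw [Category.assoc, Category.assoc]
      exact congrArg (pullback.fst (Red.bc j T).hom _ ≫ ·) ((Over.w _).trans (Over.w v₀).symm)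
  · exact (Over.w _).trans (Over.w _).symm

theorem lifts_of_map [GrpObj T] [GrpObj G] {P : Scheme.{u}} (p : P ⟶ S) (u : T ⟶ G)
    (hu : (Over.pullback j).map u = v₀) : Lifts j v₀ p ((Over.pullback p).map u) := fun Z t a b ha hb => by
  rw [ActBC.pullback_map_left_fst, pullback.lift_fst_assoc]
  exact (lifts_map_iff j v₀ u).1 hu t b hb

end Red

variable {A : Type u} [CommRing A] (J : Ideal A)
  {G T : Over (Spec (CommRingCat.of A))} [GrpObj G] [GrpObj T] [Flat G.hom] [QuasiCompact G.hom]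
  [QuasiSeparated G.hom] [LocallyOfFinitePresentation G.hom] (v₀ : Red.bc (jq J) T ⟶ Red.bc (jq J) G) [IsMonHom v₀]

/-- **Central homomorphisms from tori lift uniquely.** -/
theorem existsUnique_hom (hc₀ : MultLift.Central v₀) {n : ℕ} (hn : n ≠ 0) (hJ : J ^ n = ⊥) (hT : Red.IsTorus T) :
    ∃! v : T ⟶ G, IsMonHom v ∧ (Over.pullback (jq J)).map v = v₀ := by
  obtain ⟨S', f, hflat, hsurj, hcov, hloc⟩ := id hT
  haveI := hflat; haveI := hsurj
  obtain ⟨u, ⟨hu, huQ⟩, huniq⟩ := existsUnique_glue (G := G) f hcov hloc (fun p v => Lifts (jq J) v₀ p v)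
    (fun {_ _} g {_ _} h {_} hv => lifts_wmap (jq J) v₀ g h hv) (fun {_} _ q hq => by
      obtain ⟨r, m, hm1, hm, e, he⟩ := hq
      haveI := he
      exact existsUnique_affine J v₀ hc₀ hn hJ q r e hm1 hm)
  refine ⟨u, ⟨hu, map_eq_of_lifts (jq J) v₀ f hcov _ (chartMap_cover f hloc) u huQ⟩, fun u' hu' => ?_⟩
  exact huniq u' ⟨hu'.1, fun i => lifts_of_map (jq J) v₀ _ u' hu'.2⟩

end Groth.Agent.TorusLift
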