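import Groth.Agent.TorusLiftLib.Type
import Groth.Agent.HomCorrLib.SubLift
import Groth.Agent.MultEqLib.Props

/-!
Tori lift along nilpotent ideals.
-/

set_option autoImplicit false
set_option backward.isDefEq.respectTransparency false
set_option maxHeartbeats 1000000

noncomputable section

universe u

open CategoryTheory CategoryTheory.Limits MonoidalCategory CartesianMonoidalCategory AlgebraicGeometry CoactBr
open scoped MonObj TensorProduct

namespace Groth.Agent.TorusLift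

attribute [local instance] CoactBr.braidedAlgSpecOf

open Groth.Agent.DiagRep (bcHom)

/-- Tori lift along nilpotent ideals. -/
theorem exists_torus_lift {R : Type u} [CommRing R] {J : Ideal R} (hJ : IsNilpotent J)
    (T₀ : Over (Spec (CommRingCat.of (R ⧸ J)))) [GrpObj T₀] (hT₀ : Red.IsTorus T₀) :
    ∃ (T : Over (Spec (CommRingCat.of R))) (_ : GrpObj T), Red.IsTorus T ∧
      ∃ φ : Red.bc (Spec.map (CommRingCat.ofHom (Ideal.Quotient.mk J))) T ≅ T₀, IsMonHom φ.hom := by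
  have hJ' : ∀ x ∈ J, IsNilpotent x := fun x hx => by
    obtain ⟨n, hn⟩ := hJ
    refine ⟨n, ?_⟩
    have h := Ideal.pow_mem_pow hx n
    rw [hn] at h
    exact h
  have hFT := RedRank.isMultTypeFT_of_isTorus hT₀
  haveI := MultEq.isAffineHom_of_isMultTypeFT hFT
  haveI := MultEq.lfp_of_isMultTypeFT hFT
  haveI : IsAffine T₀.left := isAffine_of_isAffineHom T₀.hom
  obtain ⟨A₀, _, _, v₀, hv₀, hv₀'⟩ := HomCorr.exists_hopf T₀
  haveI := hv₀
  have hA₀ := HomCorr.isMultType_of_locally v₀.hom (RedRank.locally_of_isTorus hT₀)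
  haveI : Algebra.FiniteType (R ⧸ J) A₀ := by
    haveI : IsIso v₀.hom.left := (Over.forget _).map_isIso v₀.hom
    haveI : LocallyOfFiniteType (sp (R ⧸ J) A₀).hom := by rw [← Over.w v₀.hom]; infer_instance
    have h : (algebraMap (R ⧸ J) A₀).FiniteType :=
      (HasRingHomProperty.Spec_iff (P := @LocallyOfFiniteType) (φ := CommRingCat.ofHom (algebraMap (R ⧸ J) A₀))).1
        (inferInstance : LocallyOfFiniteType (sp (R ⧸ J) A₀).hom)
    exact RingHom.finiteType_algebraMap.1 h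
  obtain ⟨A, _, _, hq, ⟨e⟩⟩ := HopfDesc.quasiIsotrivial_lifts hJ' A₀
    (QIso.isQuasiIsotrivial_of_finiteType inferInstance hA₀)
  have hA := FlatLift.isMultType_of_isQuasiIsotrivial hq
  haveI : Algebra.FiniteType R A := HomCorr.finiteType_of_nilpotent hJ
    (Algebra.FiniteType.equiv (inferInstance : Algebra.FiniteType (R ⧸ J) A₀) (e : (R ⧸ J) ⊗[R] A ≃ₐ[R ⧸ J] A₀).symm)
  let E : (R ⧸ J) ⊗[R] A ≃ₐ[R ⧸ J] A₀ := (e : (R ⧸ J) ⊗[R] A ≃ₐ[R ⧸ J] A₀)
  haveI : IsMonHom (pt E.toAlgHom) := DiagRep.isMonHom_pt E.toAlgHom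
    (BialgHom.counitAlgHom_comp e.toBialgHom) (BialgHom.map_comp_comulAlgHom e.toBialgHom)
  haveI : IsIso (pt E.toAlgHom) := ⟨pt E.symm.toAlgHom,
    by rw [← pt_comp, show E.toAlgHom.comp E.symm.toAlgHom = AlgHom.id (R ⧸ J) A₀ from
      AlgHom.ext E.apply_symm_apply, pt_id],
    by rw [← pt_comp, show E.symm.toAlgHom.comp E.toAlgHom = AlgHom.id (R ⧸ J) _ from
      AlgHom.ext E.symm_apply_apply, pt_id]⟩
  haveI : IsMonHom (asIso (pt E.toAlgHom)).hom := inferInstanceAs (IsMonHom (pt E.toAlgHom))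
  let b : Red.bc (Spec.map (CommRingCat.ofHom (Ideal.Quotient.mk J))) (sp R A) ⟶ sp (R ⧸ J) ((R ⧸ J) ⊗[R] A) :=
    bcHom R (R ⧸ J) A
  haveI : IsIso b := inferInstanceAs (IsIso (bcHom _ _ _))
  haveI : IsMonHom (asIso b).hom := DiagRep.isMonHom_bcHom R (R ⧸ J) A
  let φ : Red.bc (Spec.map (CommRingCat.ofHom (Ideal.Quotient.mk J))) (sp R A) ≅ T₀ :=
    asIso b ≪≫ (asIso (pt E.toAlgHom)).symm ≪≫ v₀
  haveI : IsMonHom φ.hom := by
    show IsMonHom ((asIso b).hom ≫ (asIso (pt E.toAlgHom)).inv ≫ v₀.hom)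
    infer_instance
  haveI : IsMonHom φ.inv := inferInstance
  refine ⟨sp R A, inferInstance, isTorus_of_nil hJ' (sp R A) (HomCorr.isMultTypeFT_of_isMultType (𝟙 _) hA) ?_, φ,
    inferInstance⟩
  exact RedRank.isTorus_of_iso φ hT₀

end Groth.Agent.TorusLift
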