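import Groth.Agent.TorusLiftLib.Glue
import Groth.Agent.S5280
import Groth.Agent.S5261
import Groth.Agent.MultEqLib.Props
import Groth.Agent.EqNhdLib.Main
import Groth.Agent.RCentreLib.SelfCent

/-!
Properties of lifted homomorphisms of tori.
-/

set_option autoImplicit false
set_option linter.style.haveILetI false
set_option backward.isDefEq.respectTransparency false
set_option maxHeartbeats 1000000

noncomputable section

universe u

open CategoryTheory CategoryTheory.Limits MonoidalCategory CartesianMonoidalCategory AlgebraicGeometry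
open scoped MonObj

attribute [-instance] CategoryTheory.Hom.commGroup

namespace Groth.Agent.TorusLift

variable {A : Type u} [CommRing A] {J : Ideal A} {G T : Over (Spec (CommRingCat.of A))} [GrpObj G] [GrpObj T]

/-- A homomorphism from a torus which is a monomorphism modulo nilpotent elements is one. -/
theorem mono_of_reduction [LocallyOfFinitePresentation G.hom] (hJ : ∀ x ∈ J, IsNilpotent x) (hT : Red.IsTorus T)
    (j : T ⟶ G) [IsMonHom j] (hm : Mono ((Over.pullback (jq J)).map j)) : Mono j := by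
  haveI : Mono j.left := by
    refine S5261.result T G (RedRank.isMultTypeFT_of_isTorus hT) (Or.inr inferInstance) j fun s => ?_
    let q := (Spec (CommRingCat.of A)).fromSpecResidueField s
    obtain ⟨ψ, hψ⟩ : ∃ ψ, Spec.map ψ = q := ⟨Spec.preimage q, Spec.map_preimage q⟩
    let σ : Spec ((Spec (CommRingCat.of A)).residueField s) ⟶ Spec (CommRingCat.of (A ⧸ J)) :=
      Spec.map (CommRingCat.ofHom (Ideal.Quotient.lift J ψ.hom fun x hx => ((hJ x hx).map ψ.hom).eq_zero))
    have hq : σ ≫ jq J = q := by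
      rw [← hψ, ← Spec.map_comp, ← CommRingCat.ofHom_comp]
      rfl
    haveI : Mono ((Over.pullback q).map j) := by
      rw [← hq, show (Over.pullback (σ ≫ jq J)).map j = (Over.pullbackComp σ (jq J)).hom.app T ≫
        (Over.pullback σ).map ((Over.pullback (jq J)).map j) ≫ (Over.pullbackComp σ (jq J)).inv.app G from
        (NatIso.naturality_2 (Over.pullbackComp σ (jq J)) j).symm]
      infer_instance
    exact inferInstanceAs (Mono ((Over.pullback q).map j).left)
  exact Over.mono_of_mono_left j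

/-- A homomorphism from a torus central modulo a nilpotent ideal is central. -/
theorem central_of_reduction [LocallyOfFinitePresentation G.hom] (hJ : IsNilpotent J) (hT : Red.IsTorus T)
    (j : T ⟶ G) [IsMonHom j]
    (hc : MultLift.Central (H := Red.bc (jq J) T) (G := Red.bc (jq J) G) ((Over.pullback (jq J)).map j)) :
    ∀ (X : Over (Spec (CommRingCat.of A))) (x : X ⟶ T) (g : X ⟶ G), (x ≫ j) * g = g * (x ≫ j) := by
  haveI : IsClosedImmersion (jq J) := IsClosedImmersion.spec_of_surjective _ Ideal.Quotient.mk_surjective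
  refine S5280.result (jq J) (fun x => ⟨⟨⊤, isAffineOpen_top _⟩, trivial, ?_⟩) T G (RedRank.locally_of_isTorus hT) j ?_
  · obtain ⟨n, hn⟩ := hJ
    refine ⟨n, ?_⟩
    let e := Scheme.ΓSpecIso (CommRingCat.of A)
    have hle : (jq J).ker.ideal ⟨⊤, isAffineOpen_top _⟩ ≤ J.map e.inv.hom := by
      intro y hy
      rw [Scheme.Hom.ker_apply, RingHom.mem_ker] at hy
      have h := congrArg (fun k => k.hom y) (Scheme.ΓSpecIso_naturality (CommRingCat.ofHom (Ideal.Quotient.mk J)))
      simp only [CommRingCat.hom_comp, RingHom.comp_apply] at h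
      erw [hy, map_zero] at h
      have h2 := Ideal.mem_map_of_mem e.inv.hom (Ideal.Quotient.eq_zero_iff_mem.1 h.symm)
      rwa [← RingHom.comp_apply, ← CommRingCat.hom_comp, Iso.hom_inv_id] at h2
    refine eq_bot_iff.2 ((Ideal.pow_right_mono hle n).trans ?_)
    rw [← Ideal.map_pow, hn]
    simp
  intro Y p g h
  let Y₀ : Over (Spec (CommRingCat.of (A ⧸ J))) := Over.mk p.left
  let ε : (Over.map (jq J)).obj Y₀ ≅ Y := Over.isoMk (Iso.refl _) (by
    show 𝟙 _ ≫ Y.hom = p.left ≫ jq J
    rw [Category.id_comp]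
    exact (Over.w p).symm)
  rw [← cancel_epi ε.hom, MonObj.comp_mul, MonObj.comp_mul]
  apply (PowEtCentralLib.adjEquiv (jq J) Y₀).injective
  rw [map_mul, map_mul]
  have e₁ : PowEtCentralLib.adjEquiv (jq J) Y₀ (ε.hom ≫ g ≫ j) =
      (Over.mapPullbackAdj (jq J)).homEquiv Y₀ T (ε.hom ≫ g) ≫ (Over.pullback (jq J)).map j := by
    rw [← Category.assoc]
    exact (Over.mapPullbackAdj (jq J)).homEquiv_naturality_right _ _
  rw [e₁]
  exact (hc _ _ _).symm

theorem commute_of_torus (hT : Red.IsTorus T) {X : Over (Spec (CommRingCat.of A))} (a b : X ⟶ T) : a * b = b * a :=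
  RCentre.commute_torus hT a b

/-- Homomorphisms of tori lift uniquely. -/
theorem existsUnique_torus_hom {n : ℕ} (hn : n ≠ 0) (hJ : J ^ n = ⊥) {T' : Over (Spec (CommRingCat.of A))} [GrpObj T']
    (hT' : Red.IsTorus T') (hT : Red.IsTorus T) (v₀ : Red.bc (jq J) T' ⟶ Red.bc (jq J) T) [IsMonHom v₀] :
    ∃! v : T' ⟶ T, IsMonHom v ∧ (Over.pullback (jq J)).map v = v₀ := by
  have hFT := RedRank.isMultTypeFT_of_isTorus hT
  haveI := MultEq.isAffineHom_of_isMultTypeFT hFT
  haveI := MultEq.lfp_of_isMultTypeFT hFT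
  haveI := EqNhd.flat_of_isMultTypeFT hFT
  exact existsUnique_hom J v₀ (fun X g x => RCentre.commute_torus (RedRank.isTorus_bc hT (jq J)) _ _) hn hJ hT'

/-- Isomorphisms of tori lift. -/
theorem exists_iso_lift {n : ℕ} (hn : n ≠ 0) (hJ : J ^ n = ⊥) {T' : Over (Spec (CommRingCat.of A))} [GrpObj T']
    (hT' : Red.IsTorus T') (hT : Red.IsTorus T) (e : Red.bc (jq J) T' ≅ Red.bc (jq J) T) [IsMonHom e.hom] :
    ∃ ψ : T' ≅ T, IsMonHom ψ.hom ∧ (Over.pullback (jq J)).map ψ.hom = e.hom := by
  haveI : IsMonHom e.inv := inferInstance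
  obtain ⟨a, ⟨ha, ha'⟩, -⟩ := existsUnique_torus_hom hn hJ hT' hT e.hom
  obtain ⟨b, ⟨hb, hb'⟩, -⟩ := existsUnique_torus_hom hn hJ hT hT' e.inv
  haveI := ha; haveI := hb
  have key : ∀ {U : Over (Spec (CommRingCat.of A))} [GrpObj U] (hU : Red.IsTorus U) (c : U ⟶ U) [IsMonHom c],
      (Over.pullback (jq J)).map c = 𝟙 _ → c = 𝟙 U := fun {U} _ hU c _ hc =>
    (existsUnique_torus_hom hn hJ hU hU (𝟙 (Red.bc (jq J) U))).unique ⟨inferInstance, hc⟩
      ⟨inferInstance, CategoryTheory.Functor.map_id _ _⟩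
  refine ⟨⟨a, b, key hT' (a ≫ b) ?_, key hT (b ≫ a) ?_⟩, ha, ha'⟩
  · rw [Functor.map_comp, ha', hb', Iso.hom_inv_id]
  · rw [Functor.map_comp, ha', hb', Iso.inv_hom_id]

end Groth.Agent.TorusLift
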