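import Groth.Agent.TorusLiftLib.Props
import Groth.Agent.TorusLiftLib.Smooth
import Groth.Agent.MultExtLib.Main
import Groth.Agent.HomCorrLib.SubLift
import Groth.Agent.MultTorusLib.Diag

/-!
Torsion subgroups of lifted tori.
-/

set_option autoImplicit false
set_option linter.style.haveILetI false
set_option backward.isDefEq.respectTransparency false
set_option maxHeartbeats 1000000
set_option synthInstance.maxHeartbeats 400000
set_option synthInstance.maxSize 4000
set_option maxSynthPendingDepth 4

noncomputable section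

universe u

open CategoryTheory CategoryTheory.Limits MonoidalCategory CartesianMonoidalCategory AlgebraicGeometry CoactBr
open scoped MonObj TensorProduct

attribute [-instance] CategoryTheory.Hom.commGroup

namespace Groth.Agent.TorusLift

attribute [local instance] CoactBr.braidedAlgSpecOf

open Groth.Agent.FreeAct (DA)
open PowEtCentralLib (adjEquiv)
open TorsLim (push isClosedImmersion_pt)

variable {A : Type u} [CommRing A] {J : Ideal A}

theorem locally_of_isMultTypeFT {S : Scheme.{u}} {H : Over S} [GrpObj H] (hH : SGA3x.IsMultTypeFT H) :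
    TwC.Locally S TwC.Topology.fpqc (fun S' f => ∃ (M : Type) (_ : AddCommGroup M),
      Nonempty (Grp.mk (Red.bc f H) ≅ Grp.mk (Red.DS S' M))) := by
  obtain ⟨S', f, h1, h2, h3, hloc⟩ := hH
  refine ⟨S', f, h1, h2, h3, fun z => ?_⟩
  obtain ⟨U, hU, M, iM, -, h⟩ := hloc z
  exact ⟨U, hU, M, iM, h⟩

theorem nil_ker (hJ : IsNilpotent J) (x : Spec (CommRingCat.of A)) :
    ∃ U : (Spec (CommRingCat.of A)).affineOpens, x ∈ (U : (Spec (CommRingCat.of A)).Opens) ∧
      IsNilpotent ((jq J).ker.ideal U) := by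
  haveI : IsClosedImmersion (jq J) := IsClosedImmersion.spec_of_surjective _ Ideal.Quotient.mk_surjective
  obtain ⟨n, hn⟩ := hJ
  refine ⟨⟨⊤, isAffineOpen_top _⟩, trivial, n, ?_⟩
  let e := Scheme.ΓSpecIso (CommRingCat.of A)
  have hle : (jq J).ker.ideal ⟨⊤, isAffineOpen_top _⟩ ≤ J.map e.inv.hom := by
    intro y hy
    rw [Scheme.Hom.ker_apply, RingHom.mem_ker] at hy
    have h := congrArg (fun k => k.hom y) (Scheme.ΓSpecIso_naturality (CommRingCat.ofHom (Ideal.Quotient.mk J)))
    simp only [CommRingCat.hom_comp, RingHom.comp_apply] at h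
    erw [hy, map_zero] at h
    have h2 := Ideal.mem_map_of_mem e.inv.hom (Ideal.Quotient.eq_zero_iff_mem.1 h.symm)
    rwa [← RingHom.comp_apply, ← CommRingCat.hom_comp, Iso.hom_inv_id] at h2
  refine eq_bot_iff.2 ((Ideal.pow_right_mono hle n).trans ?_)
  rw [← Ideal.map_pow, hn]
  simp

variable {H T : Over (Spec (CommRingCat.of A))} [GrpObj H] [GrpObj T]

/-- Rigidity: homomorphisms into a commutative group agreeing modulo a nilpotent ideal agree. -/
theorem hom_eq_of_red [LocallyOfFinitePresentation T.hom] (hJ : IsNilpotent J) (hH : SGA3x.IsMultTypeFT H)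
    (hcomm : ∀ (X : Over (Spec (CommRingCat.of A))) (a b : X ⟶ T), a * b = b * a)
    (e e' : H ⟶ T) [IsMonHom e] [IsMonHom e'] (h : (Over.pullback (jq J)).map e = (Over.pullback (jq J)).map e') :
    e = e' := by
  haveI : IsClosedImmersion (jq J) := IsClosedImmersion.spec_of_surjective _ Ideal.Quotient.mk_surjective
  haveI : IsMonHom (e * e'⁻¹) := MultLift.isMonHom_mul_inv fun X g x => hcomm X _ _
  have hact := TrivNil.act_eq_snd (jq J) (nil_ker hJ) (locally_of_isMultTypeFT hH)
    (MultLift.transAction (e * e'⁻¹)) (fun Y p g x => by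
      rw [MultLift.lift_transAction, MonObj.comp_mul, GrpObj.comp_inv]
      suffices hh : g ≫ e = g ≫ e' by rw [hh, mul_inv_cancel, one_mul]
      refine Over.OverMorphism.ext ?_
      have hp : g.left ≫ H.hom = p.left ≫ jq J := (Over.w g).trans (Over.w p).symm
      rw [Over.comp_left, Over.comp_left,
        (lifts_map_iff (jq J) _ e).1 h g.left p.left hp, (lifts_map_iff (jq J) _ e').1 rfl g.left p.left hp])
  have h2 := MultLift.lift_transAction (e * e'⁻¹) (𝟙 H) (1 : H ⟶ T)
  rw [hact, lift_snd, Category.id_comp, mul_one] at h2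
  exact mul_inv_eq_one.1 h2.symm

/-- The characters killed by an integer. -/
theorem exists_factor_modPow {C : Type u} [CommRing C] {r n : ℕ} {X : Over (Spec (CommRingCat.of C))}
    (x : X ⟶ sp C (DA C (Fin r → ℤ))) (hx : x ^ n = 1) :
    ∃ y : X ⟶ sp C (DA C (Fin r → ZMod n)), y ≫ pt (push (A := C) C (modPow r n)) = x := by
  letI := RCentre.algΓ X
  let χ : Multiplicative (Fin r → ℤ) →* Γ(X.left, ⊤) :=
    (RCentre.fn x).toMonoidHom.comp (MonoidAlgebra.of C (Multiplicative (Fin r → ℤ)))
  have hkill : ∀ v : Fin r → ℤ, χ (Multiplicative.ofAdd (n • v)) = 1 := by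
    intro v
    have h1 : x ^ n = x ≫ pt (MultTorus.mapChar (R := C) (n • AddMonoidHom.id (Fin r → ℤ))) := by
      rw [← MultTorus.pow_pt_id, MonObj.comp_pow, Category.comp_id]
    have h2 : (RCentre.fn x).comp (MultTorus.mapChar (R := C) (n • AddMonoidHom.id (Fin r → ℤ))) =
        RCentre.fn (1 : X ⟶ sp C (DA C (Fin r → ℤ))) := by
      refine RCentre.fn_unique ?_
      rw [pt_comp, ← Category.assoc, RCentre.toSp_fn, RCentre.toSp_fn, ← h1, hx]
    have h3 := DFunLike.congr_fun h2 (MonoidAlgebra.single (Multiplicative.ofAdd v) (1 : C))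
    rw [RCentre.fn_one, AlgHom.comp_apply, MultTorus.mapChar_single, AlgHom.comp_apply] at h3
    have h4 : (MonoidAlgebra.of C (Multiplicative (Fin r → ℤ)) (Multiplicative.ofAdd (n • v))) =
        MonoidAlgebra.single ((AddMonoidHom.toMultiplicative (n • AddMonoidHom.id (Fin r → ℤ))) (Multiplicative.ofAdd v)) (1 : C) := rfl
    show RCentre.fn x (MonoidAlgebra.of C _ (Multiplicative.ofAdd (n • v))) = 1
    rw [h4, h3]
    simp
  have hs : Function.Surjective (modPow r n) := fun z => by
    choose f hf using fun i => ZMod.intCast_surjective (Multiplicative.toAdd z i)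
    exact ⟨Multiplicative.ofAdd f, Multiplicative.toAdd.injective (funext hf)⟩
  have hle : (modPow r n).ker ≤ χ.ker := by
    intro m hm
    rw [MonoidHom.mem_ker] at hm ⊢
    have hz : ∀ i, ((Multiplicative.toAdd m i : ℤ) : ZMod n) = 0 := fun i => congrFun (congrArg Multiplicative.toAdd hm) i
    choose w hw using fun i => (ZMod.intCast_zmod_eq_zero_iff_dvd _ _).1 (hz i)
    have e : m = Multiplicative.ofAdd (n • (w : Fin r → ℤ)) := Multiplicative.toAdd.injective (funext fun i => by
      rw [hw i]; simp)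
    rw [e]
    exact hkill w
  refine ⟨RCentre.toSp X ≫ pt (MonoidAlgebra.lift C Γ(X.left, ⊤) _ ((Units.coeHom Γ(X.left, ⊤)).comp
    (MonoidHom.liftOfSurjective (modPow r n) hs ⟨χ.toHomUnits, fun m hm => Units.ext (hle hm)⟩))), ?_⟩
  refine Eq.trans ?_ (RCentre.toSp_fn x)
  rw [Category.assoc, ← pt_comp]
  refine congrArg (fun k => RCentre.toSp X ≫ pt k) (MonoidAlgebra.algHom_ext (fun m => ?_) (Subsingleton.elim _ _))
  rw [AlgHom.comp_apply, MonoidAlgebra.mapDomainAlgHom_apply, MonoidAlgebra.mapDomain_single, MonoidAlgebra.lift_single,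
    one_smul, MonoidHom.comp_apply]
  exact congrArg Units.val (MonoidHom.liftOfRightInverse_comp_apply _ _ _ _ m)

theorem mono_push_modPow (C : Type u) [CommRing C] (r n : ℕ) : Mono (pt (push (A := C) C (modPow r n))) :=
  DiagRep.mono_of_isClosedImmersion _ (isClosedImmersion_pt _ (fun y => by
    have hs : Function.Surjective (modPow r n) := fun z => by
      choose f hf using fun i => ZMod.intCast_surjective (Multiplicative.toAdd z i)
      exact ⟨Multiplicative.ofAdd f, Multiplicative.toAdd.injective (funext hf)⟩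
    induction y using MonoidAlgebra.induction_linear with
    | zero => exact ⟨0, map_zero _⟩
    | add p q hp hq =>
      obtain ⟨a, rfl⟩ := hp
      obtain ⟨b, rfl⟩ := hq
      exact ⟨a + b, map_add _ _ _⟩
    | single m c =>
      obtain ⟨l, rfl⟩ := hs m
      exact ⟨MonoidAlgebra.single l c, by simp⟩))

/-- Torsion subgroups lift. -/
theorem exists_kernel_lift (hJ : IsNilpotent J) (hT : Red.IsTorus T) (hH : SGA3x.IsMultTypeFT H)
    (g₀ : Red.bc (jq J) H ⟶ Red.bc (jq J) T) [IsMonHom g₀] :
    ∃ b : H ⟶ T, IsMonHom b ∧ (Over.pullback (jq J)).map b = g₀ := by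
  haveI := smooth_of_isTorus hT
  haveI := MultEq.isAffineHom_of_isMultTypeFT hH
  haveI : IsAffine H.left := isAffine_of_isAffineHom H.hom
  obtain ⟨B, _, _, v, hv, hv'⟩ := HomCorr.exists_hopf H
  haveI := hv; haveI := hv'
  obtain ⟨il, hil⟩ := HopfLift.exists_integral_of_isMultType
    (HomCorr.isMultType_of_locally v.hom (locally_of_isMultTypeFT hH))
  haveI : IsMonHom (M := Red.bc (jq J) (sp A B)) (N := Red.bc (jq J) H) ((Over.pullback (jq J)).map v.hom) :=
    DiagRep.isMonHom_bc_map _ v.hom
  haveI : IsMonHom (M := Red.bc (jq J) (sp A B)) ((Over.pullback (jq J)).map v.hom ≫ g₀) :=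
    isMonHom_comp inferInstance inferInstance
  obtain ⟨f, hf, hfψ⟩ := HomCorr.exists_hom_lift hil hJ ((Over.pullback (jq J)).map v.hom ≫ g₀)
  haveI := hf
  refine ⟨v.inv ≫ f, inferInstance, ?_⟩
  rw [Functor.map_comp]
  refine (congrArg (_ ≫ ·) hfψ).trans ?_
  rw [← Category.assoc, ← Functor.map_comp, Iso.inv_hom_id, CategoryTheory.Functor.map_id, Category.id_comp]

end Groth.Agent.TorusLift
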