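import Groth.Agent.TorusLiftLib.Coherent
import Groth.Agent.SubDescLib.Main
import Groth.Agent.MultTorusLib.DS
import Groth.Agent.HomCorrLib.SqLift
import Groth.Agent.PowEtCentralLib.Split
import Groth.Agent.ConjAvgLib.Main

/-!
Torsion subgroups of tori.
-/

set_option autoImplicit false
set_option linter.style.haveILetI false
set_option backward.isDefEq.respectTransparency false
set_option maxHeartbeats 1000000
set_option synthInstance.maxHeartbeats 400000
set_option synthInstance.maxSize 4000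
set_option maxSynthPendingDepth 4

noncomputable section

universe u

open CategoryTheory CategoryTheory.Limits MonoidalCategory CartesianMonoidalCategory AlgebraicGeometry CoactBr
open scoped MonObj TensorProduct

attribute [-instance] CategoryTheory.Hom.commGroup

namespace Groth.Agent.TorusLift

attribute [local instance] CoactBr.braidedAlgSpecOf

open Groth.Agent.FreeAct (DA)
open TorsLim (push)

/-- A property which descends holds as soon as it holds on charts. -/
theorem prop_of_local (P : MorphismProperty Scheme.{u}) [IsZariskiLocalAtTarget P]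
    [P.IsStableUnderBaseChange] [P.DescendsAlong (@Surjective ⊓ @Flat ⊓ @QuasiCompact)]
    {S S' : Scheme.{u}} (f : S' ⟶ S) [Flat f] [Surjective f]
    (hcov : ∀ V : S.Opens, IsAffineOpen V → ∃ W : S'.Opens, IsCompact (W : Set S') ∧ f.base '' (W : Set S') = (V : Set S))
    (H : Over S) (hloc : ∀ x : S', ∃ U : S'.Opens, x ∈ U ∧ P (pullback.snd H.hom (U.ι ≫ f))) : P H.hom := by
  refine (IsZariskiLocalAtTarget.iff_of_iSup_eq_top (fun V : S.affineOpens => (V : S.Opens))
    (iSup_affineOpens_eq_top S)).2 fun V => ?_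
  obtain ⟨W, hW, hWV⟩ := hcov V V.2
  have hle : W ≤ f ⁻¹ᵁ (V : S.Opens) := fun x hx => by
    show f.base x ∈ ((V : S.Opens) : Set S)
    rw [← hWV]
    exact ⟨x, hx, rfl⟩
  let g : (W : Scheme.{u}) ⟶ (V : S.Opens) := f.resLE V W hle
  haveI : Flat g := by
    haveI : Flat (g ≫ (V : S.Opens).ι) := by
      rw [Scheme.Hom.resLE_comp_ι]; infer_instance
    exact MorphismProperty.of_postcomp (W' := @IsOpenImmersion) @Flat g (V : S.Opens).ι inferInstance inferInstance
  haveI : Surjective g := ⟨fun v => by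
    have hv : v.1 ∈ f.base '' (W : Set S') := by rw [hWV]; exact v.2
    obtain ⟨x, hx, hxv⟩ := hv
    refine ⟨⟨x, hx⟩, Subtype.ext ?_⟩
    have := congrArg (fun m : (W : Scheme.{u}) ⟶ S => m.base ⟨x, hx⟩) (f.resLE_comp_ι hle)
    exact this.trans hxv⟩
  haveI : CompactSpace (W : Scheme.{u}) := isCompact_iff_compactSpace.1 hW
  haveI : IsAffine (V : S.Opens) := V.2
  haveI : QuasiCompact g := quasiCompact_iff_compactSpace g |>.2 inferInstance
  refine MorphismProperty.of_pullback_snd_of_descendsAlong (P := P)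
    (Q := @Surjective ⊓ @Flat ⊓ @QuasiCompact) (f := H.hom ∣_ (V : S.Opens)) (g := g)
    ⟨⟨inferInstance, inferInstance⟩, inferInstance⟩ ?_
  suffices hb : P (pullback.snd H.hom (W.ι ≫ f)) by
    have sq : IsPullback (pullback.fst (H.hom ∣_ (V : S.Opens)) g ≫ (H.hom ⁻¹ᵁ (V : S.Opens)).ι)
        (pullback.snd (H.hom ∣_ (V : S.Opens)) g) H.hom (W.ι ≫ f) := by
      rw [← f.resLE_comp_ι hle]
      exact (IsPullback.of_hasPullback _ _).paste_horiz (isPullback_morphismRestrict _ _).flip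
    have := sq.isoPullback_hom_snd
    rw [← this]
    exact (P.cancel_left_of_respectsIso _ _).2 hb
  choose U hxU hP using fun x : (W : Scheme.{u}) => hloc x.1
  refine (IsZariskiLocalAtTarget.iff_of_iSup_eq_top (fun x => W.ι ⁻¹ᵁ U x) (TopologicalSpace.Opens.ext ?_)).2 fun x => ?_
  · refine Set.eq_univ_of_forall fun y => ?_
    simp only [TopologicalSpace.Opens.coe_iSup, Set.mem_iUnion]
    exact ⟨y, hxU y⟩
  have h1 : P (pullback.snd H.hom ((U x).ι ≫ f)) := hP x
  let r : ((W.ι ⁻¹ᵁ U x : (W : Scheme.{u}).Opens) : Scheme.{u}) ⟶ U x := W.ι.resLE (U x) _ le_rfl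
  have h3 : P (pullback.snd H.hom (r ≫ (U x).ι ≫ f)) := by
    rw [← pullbackLeftPullbackSndIso_hom_snd H.hom ((U x).ι ≫ f) r |> fun e => (Iso.inv_comp_eq _).2 e.symm]
    exact (P.cancel_left_of_respectsIso _ _).2 (MorphismProperty.pullback_snd _ _ h1)
  have he : r ≫ (U x).ι ≫ f = (W.ι ⁻¹ᵁ U x).ι ≫ W.ι ≫ f := W.ι.resLE_comp_ι_assoc le_rfl f
  have sq : IsPullback ((pullback.snd H.hom (W.ι ≫ f) ⁻¹ᵁ (W.ι ⁻¹ᵁ U x)).ι ≫ pullback.fst H.hom (W.ι ≫ f))
      (pullback.snd H.hom (W.ι ≫ f) ∣_ (W.ι ⁻¹ᵁ U x)) H.hom ((W.ι ⁻¹ᵁ U x).ι ≫ W.ι ≫ f) :=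
    (isPullback_morphismRestrict _ _).flip.paste_horiz (IsPullback.of_hasPullback _ _)
  rw [← he] at sq
  rw [← sq.isoPullback_hom_snd]
  exact (P.cancel_left_of_respectsIso _ _).2 h3

/-- The torsion subgroup of a torus. -/
theorem exists_kernel_pow {S : Scheme.{u}} (T : Over S) [GrpObj T] (hT : Red.IsTorus T) (n : ℕ) :
    ∃ (K : Over S) (_ : GrpObj K) (i : K ⟶ T), IsMonHom i ∧ AlgGrp.IsKernel i ((𝟙 T : T ⟶ T) ^ n) := by
  let K : Over S := pullback ((𝟙 T : T ⟶ T) ^ n) η[T]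
  let i : K ⟶ T := pullback.fst _ _
  have hk : AlgGrp.IsKernel i ((𝟙 T : T ⟶ T) ^ n) := by
    have h := IsPullback.of_hasPullback ((𝟙 T : T ⟶ T) ^ n) η[T]
    unfold AlgGrp.IsKernel
    rwa [toUnit_unique (toUnit K) (pullback.snd _ _)]
  haveI := mono_of_isKernel hk
  have h1 : ∀ {X : Over S} (y : X ⟶ K), (y ≫ i) ^ n = 1 := fun y => comp_pow_eq_one hk y
  obtain ⟨g, hg⟩ := SubDesc.exists_grpObj_of_mono i
    (exists_lift_of_isKernel hk _ (by
      have hc : Commute (fst K K ≫ i) (snd K K ≫ i) := RCentre.commute_torus hT _ _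
      rw [hc.mul_pow, h1, h1, _root_.one_mul]))
    (exists_lift_of_isKernel hk 1 (one_pow n))
    (exists_lift_of_isKernel hk i⁻¹ (by
      have h := h1 (𝟙 K)
      rw [Category.id_comp] at h
      rw [inv_pow, h, inv_one]))
  exact ⟨K, g, i, hg, hk⟩

variable {A : Type u} [CommRing A] {T K : Over (Spec (CommRingCat.of A))} [GrpObj T] [GrpObj K] (i : K ⟶ T) [IsMonHom i]

/-- The torsion subgroup over a chart is diagonalisable. -/
theorem exists_iso_split {n : ℕ} (hk : AlgGrp.IsKernel i ((𝟙 T : T ⟶ T) ^ n)) [NeZero n] {C : Type u} [CommRing C]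
    (p : Spec (CommRingCat.of C) ⟶ Spec (CommRingCat.of A)) (r : ℕ) (e : sp C (DA C (Fin r → ℤ)) ≅ Red.bc p T)
    [IsMonHom e.hom] :
    ∃ w : sp C (DA C (Fin r → ZMod n)) ≅ Red.bc p K, IsMonHom w.hom := by
  have hk' : AlgGrp.IsKernel ((Over.pullback p).map i) ((𝟙 (Red.bc p T)) ^ n) := by
    have h := MultExt.isKernel_bc p hk
    rwa [map_pow_bc] at h
  haveI := mono_of_isKernel hk'
  haveI := TorsLim.isMonHom_push (A := C) (modPow r n)
  haveI := mono_push_modPow C r n
  haveI : IsMonHom e.inv := inferInstance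
  let K' : Over (Spec (CommRingCat.of C)) := sp C (DA C (Fin r → ZMod n))
  have hK : (𝟙 K') ^ n = 1 := by
    rw [MultTorus.pow_pt_id, ← DiagRep.pt_one]
    refine congrArg pt (MonoidAlgebra.algHom_ext (fun v => ?_) (Subsingleton.elim _ _))
    have e0 : n • Multiplicative.toAdd v = (0 : Fin r → ZMod n) := funext fun l => by simp
    simp [MultTorus.mapChar, e0, MonoidAlgebra.one_def]
  let x : K' ⟶ Red.bc p T := pt (push (A := C) C (modPow r n)) ≫ e.hom
  haveI hxm : IsMonHom x := isMonHom_comp (TorsLim.isMonHom_push (A := C) (modPow r n)) ‹IsMonHom e.hom›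
  obtain ⟨a, ha⟩ := exists_lift_of_isKernel hk' x (by
    have h := pow_comp_hom (𝟙 K') x n
    rw [hK, MonObj.one_comp, Category.id_comp] at h
    exact h.symm)
  obtain ⟨c, hc⟩ := exists_factor_modPow ((Over.pullback p).map i ≫ e.inv) (by
    have h := comp_pow_eq_one hk' (𝟙 (Red.bc p K))
    rw [Category.id_comp] at h
    rw [← pow_comp_hom, h, MonObj.one_comp])
  haveI hi : IsMonHom (M := Red.bc p K) (N := Red.bc p T) ((Over.pullback p).map i) := DiagRep.isMonHom_bc_map p i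
  haveI ham : IsMonHom a := by
    haveI : IsMonHom (a ≫ (Over.pullback p).map i) := by rw [ha]; exact hxm
    exact DiagRep.isMonHom_of_comp_mono a ((Over.pullback p).map i)
  have h1 : c ≫ a = 𝟙 _ := by
    rw [← cancel_mono ((Over.pullback p).map i), Category.assoc, ha, Category.id_comp, ← Category.assoc, hc,
      Category.assoc, Iso.inv_hom_id, Category.comp_id]
  have h2 : a ≫ c = 𝟙 _ := by
    rw [← cancel_mono (pt (push (A := C) C (modPow r n))), Category.assoc, hc, ← Category.assoc, ha, Category.assoc,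
      Iso.hom_inv_id, Category.comp_id, Category.id_comp]
  exact ⟨⟨a, c, h2, h1⟩, ham⟩

/-- The torsion subgroup is of multiplicative type and, for an invertible order, étale. -/
theorem multType_etale_kernel (hT : Red.IsTorus T) {n : ℕ} (hk : AlgGrp.IsKernel i ((𝟙 T : T ⟶ T) ^ n)) [NeZero n]
    (hn : IsUnit (n : A)) : SGA3x.IsMultTypeFT K ∧ Etale K.hom := by
  obtain ⟨S', f, hflat, hsurj, hcov, hloc⟩ := id hT
  haveI := hflat; haveI := hsurj
  have hch : ∀ z : S', ∃ U : S'.Opens, z ∈ U ∧ ∃ r : ℕ,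
      Nonempty (Grp.mk (Red.bc (U.ι ≫ f) K) ≅ Grp.mk (Red.DS U (Fin r → ZMod n))) ∧
      Etale (pullback.snd K.hom (U.ι ≫ f)) := by
    intro z
    obtain ⟨V, hzV, r, -, -, -, e, he⟩ := exists_good f hloc (𝟙 S') z
    haveI := he
    haveI : IsAffine (V.1 : Scheme.{u}) := V.2
    obtain ⟨w, hw⟩ := exists_iso_split i hk (V.2.fromSpec ≫ 𝟙 S' ≫ f) r e
    haveI := hw
    refine ⟨V.1, hzV, r, ?_⟩
    obtain ⟨E⟩ := MultTorus.nonempty_iso_DS (V.2.fromSpec ≫ 𝟙 S' ≫ f) w V.2.isoSpec.hom (V.1.ι ≫ f) (by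
      rw [← Category.assoc, Category.id_comp, IsAffineOpen.fromSpec, Iso.hom_inv_id_assoc])
    refine ⟨⟨E⟩, ?_⟩
    obtain ⟨φ, hφ⟩ : ∃ φ : CommRingCat.of A ⟶ CommRingCat.of Γ(S', V.1), Spec.map φ = V.2.fromSpec ≫ 𝟙 S' ≫ f :=
      ⟨Spec.preimage _, Spec.map_preimage _⟩
    have hu : IsUnit ((n : ℕ) : Γ(S', V.1)) := by
      have h := hn.map φ.hom
      rwa [map_natCast] at h
    haveI : Finite (Multiplicative (Fin r → ZMod n)) := inferInstanceAs (Finite (Fin r → ZMod n))
    haveI : Algebra.Etale Γ(S', V.1) (DA Γ(S', V.1) (Fin r → ZMod n)) := etale_monoidAlgebra (by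
      have e : Nat.card (Multiplicative (Fin r → ZMod n)) = n ^ r := by
        show Nat.card (Fin r → ZMod n) = _
        simp [Nat.card_fun, Nat.card_zmod]
      rw [e]
      push_cast
      exact hu.pow r)
    have h1 : Etale (sp Γ(S', V.1) (DA Γ(S', V.1) (Fin r → ZMod n))).hom := by
      show Etale (Spec.map (CommRingCat.ofHom (algebraMap Γ(S', V.1) (DA Γ(S', V.1) (Fin r → ZMod n)))))
      rw [HasRingHomProperty.Spec_iff (P := @Etale)]
      exact RingHom.etale_algebraMap.2 inferInstance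
    have h2 : Etale (Red.bc (V.2.fromSpec ≫ 𝟙 S' ≫ f) K).hom := by
      rw [← Over.w w.inv]
      haveI := h1
      haveI : IsIso w.inv.left := (Over.forget _).map_isIso w.inv
      infer_instance
    let c := ActBC.bcCompIso V.2.isoSpec.hom (V.2.fromSpec ≫ 𝟙 S' ≫ f) K (show _ = V.1.ι ≫ f by
      rw [← Category.assoc, Category.id_comp, IsAffineOpen.fromSpec, Iso.hom_inv_id_assoc])
    show Etale (Red.bc (V.1.ι ≫ f) K).hom
    rw [← Over.w c.inv]
    haveI : IsIso c.inv.left := (Over.forget _).map_isIso c.inv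
    haveI : Etale (Red.bc V.2.isoSpec.hom (Red.bc (V.2.fromSpec ≫ 𝟙 S' ≫ f) K)).hom :=
      MorphismProperty.pullback_snd _ _ h2
    infer_instance
  refine ⟨⟨S', f, hflat, hsurj, hcov, fun z => ?_⟩, prop_of_local @Etale f hcov K fun z => ?_⟩
  · obtain ⟨U, hU, r, hE, -⟩ := hch z
    exact ⟨U, hU, Fin r → ZMod n, inferInstance, Module.Finite.iff_addGroup_fg.1 inferInstance, hE⟩
  · obtain ⟨U, hU, r, -, hE⟩ := hch z
    exact ⟨U, hU, hE⟩

end Groth.Agent.TorusLift
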