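import Groth.Agent.TorusLiftLib.Torsion

/-!
Homomorphisms from tori given on the torsion and modulo a nilpotent ideal.
-/

set_option autoImplicit false
set_option linter.style.haveILetI false
set_option backward.isDefEq.respectTransparency false
set_option maxHeartbeats 2000000
set_option synthInstance.maxHeartbeats 400000
set_option synthInstance.maxSize 4000
set_option maxSynthPendingDepth 4

noncomputable section

universe u

open CategoryTheory CategoryTheory.Limits MonoidalCategory CartesianMonoidalCategory AlgebraicGeometry CoactBr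
open scoped MonObj TensorProduct

attribute [-instance] CategoryTheory.Hom.commGroup

namespace Groth.Agent.TorusLift

attribute [local instance] CoactBr.braidedAlgSpecOf

open Groth.Agent.FreeAct (DA)
open TorsLim (push)

variable {A : Type u} [CommRing A] (J : Ideal A) {G T : Over (Spec (CommRingCat.of A))} [GrpObj G] [GrpObj T]
  {M : ℕ → Over (Spec (CommRingCat.of A))} [∀ k, GrpObj (M k)] (b : ∀ k, M k ⟶ T) (m : ∀ k, M k ⟶ G)

/-- Prescribed values on torsion subgroups, at all points. -/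
def OnTorsion {P : Scheme.{u}} (p : P ⟶ Spec (CommRingCat.of A)) (v : Red.bc p T ⟶ Red.bc p G) : Prop :=
  ∀ (k : ℕ) ⦃Z : Scheme.{u}⦄ (t : Z ⟶ (M k).left) (a : Z ⟶ P) (ha : t ≫ (M k).hom = a ≫ p),
    pullback.lift (t ≫ (b k).left) a (by rw [Category.assoc, Over.w (b k), ha]) ≫ v.left ≫ pullback.fst G.hom p =
      t ≫ (m k).left

omit [∀ k, GrpObj (M k)] in
theorem onTorsion_wmap {P' P : Scheme.{u}} (g : P' ⟶ P) {p : P ⟶ Spec (CommRingCat.of A)}
    {q : P' ⟶ Spec (CommRingCat.of A)} (h : g ≫ p = q) {v : Red.bc p T ⟶ Red.bc p G} (hv : OnTorsion b m p v) :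
    OnTorsion b m q (DescHom.wmap p v g q h) := by
  intro k Z t a ha
  rw [wmap_point]
  exact hv k t (a ≫ g) (by rw [ha, Category.assoc, h])

omit [GrpObj G] [GrpObj T] [∀ k, GrpObj (M k)] in
theorem onTorsion_iff {P : Scheme.{u}} (p : P ⟶ Spec (CommRingCat.of A)) (v : Red.bc p T ⟶ Red.bc p G) :
    OnTorsion b m p v ↔ ∀ k, (Over.pullback p).map (b k) ≫ v = (Over.pullback p).map (m k) := by
  constructor
  · intro hv k
    refine Over.OverMorphism.ext (pullback.hom_ext ?_ ?_)
    · rw [Over.comp_left, Category.assoc, ActBC.pullback_map_left_fst]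
      refine Eq.trans ?_ (hv k (pullback.fst (M k).hom p) (pullback.snd (M k).hom p) pullback.condition)
      congr 1
    · exact (Over.w _).trans (Over.w _).symm
  · intro hv k Z t a ha
    have h := congrArg (fun y => pullback.lift t a ha ≫ y.left ≫ pullback.fst G.hom p) (hv k)
    simp only [Over.comp_left, Category.assoc, ActBC.pullback_map_left_fst, pullback.lift_fst_assoc] at h
    refine Eq.trans ?_ h
    rw [← Category.assoc (pullback.lift t a ha)]
    congr 1
    refine pullback.hom_ext ?_ ?_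
    · rw [pullback.lift_fst, Category.assoc, ActBC.pullback_map_left_fst, pullback.lift_fst_assoc]
    · rw [pullback.lift_snd, Category.assoc, show ((Over.pullback p).map (b k)).left ≫ pullback.snd T.hom p =
        pullback.snd (M k).hom p from Over.w ((Over.pullback p).map (b k)), pullback.lift_snd]

variable (v₀ : Red.bc (jq J) T ⟶ Red.bc (jq J) G) [IsMonHom v₀] {q : ℕ}

/-- The hypotheses on a family of torsion subgroups. -/
structure TorsionData : Prop where
  one_lt : 1 < q
  unit : IsUnit (q : A)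
  monHom_b : ∀ k, IsMonHom (b k)
  mono_b : ∀ k, Mono (b k)
  monHom_m : ∀ k, IsMonHom (m k)
  multType : ∀ k, SGA3x.IsMultTypeFT (M k)
  coh : ∀ j k, j ≤ k → ∃ f : M j ⟶ M k, f ≫ b k = b j ∧ f ≫ m k = m j
  ker : ∀ k, AlgGrp.IsKernel ((Over.pullback (jq J)).map (b k)) ((𝟙 (Red.bc (jq J) T)) ^ (q ^ k))
  red : ∀ k, (Over.pullback (jq J)).map (b k) ≫ v₀ = (Over.pullback (jq J)).map (m k)

variable {J b m v₀}

theorem isUnit_pow {C : Type u} [CommRing C] (φ : CommRingCat.of A ⟶ CommRingCat.of C)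
    (hd : TorsionData (q := q) J b m v₀) (k : ℕ) : IsUnit ((q ^ k : ℕ) : C) := by
  have h := (hd.unit.map φ.hom).pow k
  rw [map_natCast] at h
  push_cast
  exact h

theorem isMonHom_one' {S : Scheme.{u}} {X Y : Over S} [GrpObj X] [GrpObj Y] : IsMonHom (1 : X ⟶ Y) where
  one_hom := by
    rw [MonObj.comp_one, Hom.one_def]
    simp [toUnit_unique (toUnit (𝟙_ (Over S))) (𝟙 _)]
  mul_hom := by
    rw [MonObj.comp_one, MonObj.mul_eq_mul, MonObj.comp_mul, tensorHom_fst, tensorHom_snd, MonObj.comp_one, _root_.one_mul, MonObj.comp_one]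

/-- The torsion subgroups are killed. -/
theorem torsion_pow (hd : TorsionData (q := q) J b m v₀) {n : ℕ} (hJ : J ^ n = ⊥) (hT : Red.IsTorus T) (k : ℕ) :
    (b k) ^ (q ^ k) = 1 := by
  haveI := hd.monHom_b
  haveI := MultEq.lfp_of_isMultTypeFT (RedRank.isMultTypeFT_of_isTorus hT)
  have hc : ∀ f : M k ⟶ T, MultLift.Central f := fun f X g x => RCentre.commute_torus hT _ _
  have hpow : ∀ l : ℕ, IsMonHom ((b k) ^ l) := by
    intro l
    induction l with
    | zero => rw [pow_zero]; exact isMonHom_one'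
    | succ l ih =>
      haveI := ih
      haveI : IsMonHom (1 : M k ⟶ T) := isMonHom_one'
      haveI : IsMonHom ((1 : M k ⟶ T) * (b k)⁻¹) := MultLift.isMonHom_mul_inv (hc _)
      have h : IsMonHom ((b k) ^ l * ((1 : M k ⟶ T) * (b k)⁻¹)⁻¹) := MultLift.isMonHom_mul_inv (hc _)
      rwa [_root_.one_mul, _root_.inv_inv, ← pow_succ] at h
  haveI := hpow (q ^ k)
  haveI : IsMonHom (1 : M k ⟶ T) := isMonHom_one'
  refine hom_eq_of_red (J := J) ⟨n, by rw [hJ, Ideal.zero_eq_bot]⟩ (hd.multType k)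
    (fun X x y => RCentre.commute_torus hT x y) _ 1 ?_
  refine (map_pow (CategoryTheory.Functor.homMonoidHom (F := Over.pullback (jq J)) (X := M k) (M := T)) (b k) _).trans ?_
  refine Eq.trans ?_ (map_one (CategoryTheory.Functor.homMonoidHom (F := Over.pullback (jq J)) (X := M k) (M := T))).symm
  have h3 := comp_pow_eq_one (hd.ker k) (𝟙 (Red.bc (jq J) (M k)))
  rwa [Category.id_comp] at h3

/-- Points killed by a power lift to the torsion subgroup over charts. -/
theorem exists_local_lift (hd : TorsionData (q := q) J b m v₀) {n : ℕ} (hJ : J ^ n = ⊥) (hT : Red.IsTorus T) {C : Type u}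
    [CommRing C] (p : Spec (CommRingCat.of C) ⟶ Spec (CommRingCat.of A)) (r : ℕ)
    (e : sp C (DA C (Fin r → ℤ)) ≅ Red.bc p T) [IsMonHom e.hom] (k : ℕ) {X : Over (Spec (CommRingCat.of C))}
    (x : X ⟶ Red.bc p T) (hx : x ^ (q ^ k) = 1) :
    ∃ y : X ⟶ Red.bc p (M k), y ≫ (Over.pullback p).map (b k) = x := by
  obtain ⟨φ, rfl⟩ : ∃ φ : CommRingCat.of A ⟶ CommRingCat.of C, Spec.map φ = p := ⟨Spec.preimage p, Spec.map_preimage p⟩
  haveI := hd.monHom_b; haveI := hd.mono_b
  have hq1 := hd.one_lt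
  haveI : NeZero (q ^ k) := ⟨pow_ne_zero k (by omega)⟩
  obtain ⟨a, -, haeq⟩ := exists_split_kernel (J := J) ⟨n, by rw [hJ, Ideal.zero_eq_bot]⟩ hT (hd.multType k) (b k)
    (hd.ker k) φ (isUnit_pow φ hd k) r e
  haveI : IsMonHom e.inv := inferInstance
  obtain ⟨y, hy⟩ := exists_factor_modPow (x ≫ e.inv) (by rw [← pow_comp_hom, hx, MonObj.one_comp])
  exact ⟨y ≫ a, by rw [Category.assoc, haeq, ← Category.assoc, hy, Category.assoc, Iso.inv_hom_id, Category.comp_id]⟩

/-- Local existence and uniqueness. -/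
theorem existsUnique_coherent_affine (hd : TorsionData (q := q) J b m v₀) {n : ℕ} (hn : n ≠ 0) (hJ : J ^ n = ⊥)
    (hT : Red.IsTorus T) {C : Type u} [CommRing C] (p : Spec (CommRingCat.of C) ⟶ Spec (CommRingCat.of A))
    (r : ℕ) (e : sp C (DA C (Fin r → ℤ)) ≅ Red.bc p T) [IsMonHom e.hom] :
    ∃! v : Red.bc p T ⟶ Red.bc p G, IsMonHom v ∧ (Lifts (jq J) v₀ p v ∧ OnTorsion b m p v) := by
  obtain ⟨φ, rfl⟩ : ∃ φ : CommRingCat.of A ⟶ CommRingCat.of C, Spec.map φ = p := ⟨Spec.preimage p, Spec.map_preimage p⟩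
  haveI := hd.monHom_b; haveI := hd.mono_b; haveI := hd.monHom_m
  let JC : Ideal C := J.map φ.hom
  have hJC : JC ^ n = ⊥ := by rw [← Ideal.map_pow, hJ, Ideal.map_bot]
  let p₀ : Spec (CommRingCat.of (C ⧸ JC)) ⟶ Spec (CommRingCat.of (A ⧸ J)) :=
    Spec.map (CommRingCat.ofHom (Ideal.quotientMap JC φ.hom Ideal.le_comap_map))
  have hp₀ : p₀ ≫ jq J = jq JC ≫ Spec.map φ := by
    rw [← Spec.map_comp, ← Spec.map_comp, ← CommRingCat.ofHom_comp]
    exact congrArg Spec.map (CommRingCat.hom_ext (RingHom.ext fun _ => rfl))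
  obtain ⟨v₁, hm₁, -, hv₁, htr⟩ := exists_transport (jq J) v₀ (jq JC) (Spec.map φ) p₀ hp₀ e
  haveI := hm₁
  have hq1 := hd.one_lt
  haveI : ∀ k, NeZero (q ^ k) := fun k => ⟨pow_ne_zero k (by omega)⟩
  choose a ha haeq using fun k => exists_split_kernel (J := J) ⟨n, by rw [hJ, Ideal.zero_eq_bot]⟩ hT (hd.multType k) (b k)
    (hd.ker k) φ (isUnit_pow φ hd k) r e
  let u : ∀ k, sp C (MonoidAlgebra C (Multiplicative (Fin r → ZMod (q ^ k)))) ⟶ Red.bc (Spec.map φ) G := fun k =>
    a k ≫ (Over.pullback (Spec.map φ)).map (m k)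
  have hu : ∀ k, IsMonHom (u k) := fun k =>
    isMonHom_comp (ha k) (DiagRep.isMonHom_bc_map (Spec.map φ) (m k))
  haveI : ∀ k, Mono ((Over.pullback (Spec.map φ)).map (b k)) := fun k => inferInstance
  have hcoh : ∀ j k (h : j ≤ k), pt (push (A := C) C (redPow r (pow_dvd_pow q h))) ≫ u k = u j := by
    intro j k h
    obtain ⟨f, hfb, hfm⟩ := hd.coh j k h
    have h1 : pt (push (A := C) C (redPow r (pow_dvd_pow q h))) ≫ a k = a j ≫ (Over.pullback (Spec.map φ)).map f := by
      rw [← cancel_mono ((Over.pullback (Spec.map φ)).map (b k)), Category.assoc, Category.assoc, haeq,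
        ← Functor.map_comp, hfb, haeq, ← Category.assoc, ← pt_comp, TorsLim.push_comp, redPow_comp]
    simp only [u]
    rw [reassoc_of% h1, ← Functor.map_comp, hfm]
  have hu' : ∀ k, (Over.pullback (jq JC)).map (u k) =
      (Over.pullback (jq JC)).map (pt (push (A := C) C (modPow r (q ^ k)))) ≫ v₁ :=
    fun k => htr (b k) (m k) (hd.red k) (a k) (pt (push (A := C) C (modPow r (q ^ k)))) (haeq k)
  obtain ⟨v, ⟨hv, hv0, hvk⟩, huniq⟩ :=
    existsUnique_of_torsion JC hn hJC hq1 (Red.bc (Spec.map φ) G) r v₁ u hu hcoh hu'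
  haveI := hv
  haveI : IsMonHom e.inv := inferInstance
  have hL : ∀ v' : Red.bc (Spec.map φ) T ⟶ Red.bc (Spec.map φ) G,
      ((Over.pullback (jq JC)).map (e.hom ≫ v') = v₁ ↔ Lifts (jq J) v₀ (Spec.map φ) v') := fun v' =>
    (hv₁ v').trans (lifts_iff v₀ (jq JC) p₀ hp₀ (exists_factor_quotient J φ) v')
  have hepi : ∀ k, Epi (a k) := by
    intro k
    have hkill : (((Over.pullback (Spec.map φ)).map (b k)) ≫ e.inv) ^ (q ^ k) = 1 := by
      have h2 : ((Over.pullback (Spec.map φ)).map (b k)) ^ (q ^ k) = 1 := by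
        refine (map_pow (CategoryTheory.Functor.homMonoidHom (F := Over.pullback (Spec.map φ)) (X := M k) (M := T)) (b k) _).symm.trans ?_
        rw [torsion_pow hd hJ hT k]
        exact map_one _
      rw [← pow_comp_hom, h2, MonObj.one_comp]
    obtain ⟨y, hy⟩ := exists_factor_modPow _ hkill
    have h1 : y ≫ a k = 𝟙 _ := by
      rw [← cancel_mono ((Over.pullback (Spec.map φ)).map (b k)), Category.assoc, haeq, ← Category.assoc, hy,
        Category.assoc, Iso.inv_hom_id, Category.comp_id, Category.id_comp]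
    haveI : IsSplitEpi (a k) := IsSplitEpi.mk' ⟨y, h1⟩
    infer_instance
  refine ⟨e.inv ≫ v, ⟨inferInstance, (hL _).1 (by rw [Iso.hom_inv_id_assoc]; exact hv0),
    (onTorsion_iff b m _ _).2 fun k => ?_⟩, fun v' hv' => ?_⟩
  · haveI := hepi k
    rw [← cancel_epi (a k), ← Category.assoc, haeq, Category.assoc, Iso.hom_inv_id_assoc]
    exact hvk k
  · haveI := hv'.1
    have hev : IsMonHom (e.hom ≫ v') := inferInstance
    rw [← huniq (e.hom ≫ v') ⟨hev, (hL v').2 hv'.2.1, fun k => ?_⟩, Iso.inv_hom_id_assoc]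
    show _ = a k ≫ (Over.pullback (Spec.map φ)).map (m k)
    rw [← (onTorsion_iff b m _ _).1 hv'.2.2 k, ← Category.assoc (a k), haeq, Category.assoc]

/-- **Homomorphisms from tori given on torsion.** -/
theorem existsUnique_coherent (hd : TorsionData (q := q) J b m v₀) {n : ℕ} (hn : n ≠ 0) (hJ : J ^ n = ⊥)
    (hT : Red.IsTorus T) :
    ∃! v : T ⟶ G, IsMonHom v ∧ (Over.pullback (jq J)).map v = v₀ ∧ ∀ k, b k ≫ v = m k := by
  obtain ⟨S', f, hflat, hsurj, hcov, hloc⟩ := id hT
  haveI := hflat; haveI := hsurj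
  obtain ⟨u, ⟨hu, huQ⟩, huniq⟩ := existsUnique_glue (G := G) f hcov hloc
    (fun p v => Lifts (jq J) v₀ p v ∧ OnTorsion b m p v)
    (fun {_ _} g {_ _} h {_} hv => ⟨lifts_wmap (jq J) v₀ g h hv.1, onTorsion_wmap b m g h hv.2⟩)
    (fun {_} _ p hp => by
      obtain ⟨r, -, -, -, e, he⟩ := hp
      haveI := he
      exact existsUnique_coherent_affine hd hn hJ hT p r e)
  refine ⟨u, ⟨hu, map_eq_of_lifts (jq J) v₀ f hcov _ (chartMap_cover f hloc) u (fun i => (huQ i).1), fun k => ?_⟩,
    fun u' hu' => huniq u' ⟨hu'.1, fun i => ⟨lifts_of_map (jq J) v₀ _ u' hu'.2.1, (onTorsion_iff b m _ _).2 fun k => ?_⟩⟩⟩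
  · refine ext_of_charts f hcov _ (chartMap_cover f hloc) _ _ fun i => ?_
    rw [Functor.map_comp]
    exact (onTorsion_iff b m _ _).1 (huQ i).2 k
  · rw [← Functor.map_comp, hu'.2.2 k]

/-- The given torsion subgroups are the torsion. -/
theorem isKernel_torsion (hd : TorsionData (q := q) J b m v₀) {n : ℕ} (hn : n ≠ 0) (hJ : J ^ n = ⊥)
    (hT : Red.IsTorus T) (k : ℕ) : AlgGrp.IsKernel (b k) ((𝟙 T : T ⟶ T) ^ (q ^ k)) := by
  haveI := hd.monHom_b; haveI := hd.mono_b
  have hJ' : IsNilpotent J := ⟨n, by rw [hJ, Ideal.zero_eq_bot]⟩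
  haveI := MultEq.lfp_of_isMultTypeFT (RedRank.isMultTypeFT_of_isTorus hT)
  refine isKernel_of_lift (torsion_pow hd hJ hT k) fun X x hx => ?_
  obtain ⟨S', f, hflat, hsurj, hcov, hloc⟩ := id hT
  haveI := hflat; haveI := hsurj
  have hq1 := hd.one_lt
  haveI : NeZero (q ^ k) := ⟨pow_ne_zero k (by omega)⟩
  have hlocal : ∀ i : chartIdx T f, ∃ y : Red.bc (chartMap f i ≫ f) X ⟶ Red.bc (chartMap f i ≫ f) (M k),
      y ≫ (Over.pullback (chartMap f i ≫ f)).map (b k) = (Over.pullback (chartMap f i ≫ f)).map x := by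
    intro i
    obtain ⟨r, -, -, -, e, he⟩ := i.2
    haveI := he
    refine exists_local_lift hd hJ hT (chartMap f i ≫ f) r e k _ ?_
    refine (map_pow (CategoryTheory.Functor.homMonoidHom (F := Over.pullback (chartMap f i ≫ f)) (X := X) (M := T)) x _).symm.trans ?_
    rw [hx]
    exact map_one _
  choose y hy using hlocal
  obtain ⟨z, hz⟩ := desc_of_charts f hcov _ (chartMap_cover f hloc) y (fun i l Z t a c ha hc => by
    haveI : Mono (b k).left := inferInstance
    rw [← cancel_mono (b k).left]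
    have h1 := congrArg (fun w => pullback.lift t a ha ≫ w.left ≫ pullback.fst T.hom _) (hy i)
    have h2 := congrArg (fun w => pullback.lift t c hc ≫ w.left ≫ pullback.fst T.hom _) (hy l)
    simp only [Over.comp_left, Category.assoc, ActBC.pullback_map_left_fst, pullback.lift_fst_assoc] at h1 h2
    simp only [Category.assoc]
    rw [h1, h2])
  refine ⟨z, ext_of_charts f hcov _ (chartMap_cover f hloc) _ _ fun i => ?_⟩
  rw [Functor.map_comp, hz i, hy i]

omit [GrpObj G] in
/-- Over a Noetherian base, finite type is finite presentation. -/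
theorem lfp_of_noetherian [IsNoetherianRing A] (G : Over (Spec (CommRingCat.of A))) [LocallyOfFiniteType G.hom] :
    LocallyOfFinitePresentation G.hom := by
  haveI : IsNoetherianRing ↑(CommRingCat.of A) := ‹IsNoetherianRing A›
  exact LocallyOfFinitePresentation.iff_locallyOfFiniteType.2 inferInstance

omit [GrpObj G] [∀ k, GrpObj (M k)] in
/-- A homomorphism reducing to a torsion subgroup is a monomorphism. -/
theorem mono_of_kernel_red {H : Over (Spec (CommRingCat.of A))} [GrpObj H] (hJ : IsNilpotent J) (hT : Red.IsTorus T)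
    (f : H ⟶ T) {n : ℕ} (h : AlgGrp.IsKernel ((Over.pullback (jq J)).map f) ((𝟙 (Red.bc (jq J) T)) ^ n)) : Mono f := by
  haveI : IsAffineHom (Red.bc (jq J) T).hom :=
    MultEq.isAffineHom_of_isMultTypeFT (RedRank.isMultTypeFT_of_isTorus (RedRank.isTorus_bc hT (jq J)))
  haveI : IsClosedImmersion (η[Red.bc (jq J) T] : 𝟙_ _ ⟶ _).left := by
    haveI : IsClosedImmersion ((η[Red.bc (jq J) T] : 𝟙_ _ ⟶ _).left ≫ (Red.bc (jq J) T).hom) := by
      rw [Over.w]
      exact inferInstanceAs (IsClosedImmersion (𝟙 _))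
    exact IsClosedImmersion.of_comp (η[Red.bc (jq J) T] : 𝟙_ _ ⟶ _).left (Red.bc (jq J) T).hom
  haveI : IsClosedImmersion ((Over.pullback (jq J)).map f).left :=
    MorphismProperty.of_isPullback (P := @IsClosedImmersion) (h.map (Over.forget _)).flip ‹IsClosedImmersion (η[Red.bc (jq J) T] : 𝟙_ _ ⟶ _).left›
  haveI : IsClosedImmersion (jq J) := IsClosedImmersion.spec_of_surjective _ Ideal.Quotient.mk_surjective
  haveI : IsClosedImmersion f.left := by
    refine HomCorr.isClosedImmersion_of_nilpotent hJ f ?_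
    rw [PowEtCentralLib.inc_left, ← ActBC.pullback_map_left_fst]
    infer_instance
  exact DiagRep.mono_of_isClosedImmersion f inferInstance

end Groth.Agent.TorusLift
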