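import Groth.Agent.DescHomLib.Main

/-!
Morphisms of schemes over a base: extensionality and descent along charts of a flat covering.
-/

set_option autoImplicit false
set_option backward.isDefEq.respectTransparency false
set_option maxHeartbeats 1000000

noncomputable section

universe u

open CategoryTheory CategoryTheory.Limits MonoidalCategory CartesianMonoidalCategory AlgebraicGeometry
open scoped MonObj

namespace Groth.Agent.TorusLift

variable {S S' : Scheme.{u}} (f : S' ⟶ S) [Flat f] [Surjective f]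
  (hcov : ∀ V : S.Opens, IsAffineOpen V → ∃ W : S'.Opens, IsCompact (W : Set S') ∧ f.base '' (W : Set S') = (V : Set S))
  {I : Type u} {X : I → Scheme.{u}} (w : ∀ i, X i ⟶ S') [∀ i, IsOpenImmersion (w i)] (hw : ∀ x : S', ∃ i, x ∈ Set.range (w i))

/-- The charts of the total space. -/
def chartCover (Y : Over S) : (pullback Y.hom f).OpenCover :=
  (Scheme.Cover.mkOfCovers (P := @IsOpenImmersion) I X w hw (fun i => inferInstance)).pullback₁ (pullback.snd Y.hom f)

include hcov w hw in
/-- Morphisms agreeing on all charts are equal. -/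
theorem ext_of_charts {Y Z : Over S} (a b : Y ⟶ Z)
    (h : ∀ i, (Over.pullback (w i ≫ f)).map a = (Over.pullback (w i ≫ f)).map b) : a = b := by
  haveI : EffectiveEpi (pullback.fst Y.hom f) := DescHom.effectiveEpi_pullback_fst f hcov Y.hom
  refine Over.OverMorphism.ext ?_
  rw [← cancel_epi (pullback.fst Y.hom f)]
  refine (chartCover f w hw Y).hom_ext _ _ fun i => ?_
  let c : pullback (pullback.snd Y.hom f) (w i) ⟶ pullback Y.hom (w i ≫ f) :=
    pullback.lift (pullback.fst _ _ ≫ pullback.fst Y.hom f) (pullback.snd _ _) (by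
      rw [Category.assoc, pullback.condition, ← Category.assoc, pullback.condition, Category.assoc])
  have h' := congrArg (fun k => c ≫ k.left ≫ pullback.fst Z.hom (w i ≫ f)) (h i)
  simp only [ActBC.pullback_map_left_fst, c, pullback.lift_fst_assoc, Category.assoc] at h'
  exact h'

include hcov w hw in
/-- A family on the charts agreeing on overlaps descends. -/
theorem desc_of_charts {T G : Over S} (v : ∀ i, Red.bc (w i ≫ f) T ⟶ Red.bc (w i ≫ f) G)
    (hv : ∀ (i k : I) ⦃Z : Scheme.{u}⦄ (t : Z ⟶ T.left) (a : Z ⟶ X i) (b : Z ⟶ X k)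
      (ha : t ≫ T.hom = a ≫ w i ≫ f) (hb : t ≫ T.hom = b ≫ w k ≫ f),
      pullback.lift t a ha ≫ (v i).left ≫ pullback.fst G.hom (w i ≫ f) =
        pullback.lift t b hb ≫ (v k).left ≫ pullback.fst G.hom (w k ≫ f)) :
    ∃ u : T ⟶ G, ∀ i, (Over.pullback (w i ≫ f)).map u = v i := by
  let e : pullback T.hom f ⟶ T.left := pullback.fst _ _
  haveI : EffectiveEpi e := DescHom.effectiveEpi_pullback_fst f hcov T.hom
  let 𝒰 := chartCover f w hw T
  let c : ∀ i, pullback (pullback.snd T.hom f) (w i) ⟶ pullback T.hom (w i ≫ f) := fun i =>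
    pullback.lift (pullback.fst _ _ ≫ e) (pullback.snd _ _) (by
      rw [Category.assoc, pullback.condition, ← Category.assoc, pullback.condition, Category.assoc])
  have key : ∀ (i k : I) {Z : Scheme.{u}} (z : Z ⟶ pullback (pullback.snd T.hom f) (w i))
      (z' : Z ⟶ pullback (pullback.snd T.hom f) (w k)),
      z ≫ pullback.fst _ _ ≫ e = z' ≫ pullback.fst _ _ ≫ e →
      z ≫ c i ≫ (v i).left ≫ pullback.fst G.hom (w i ≫ f) = z' ≫ c k ≫ (v k).left ≫ pullback.fst G.hom (w k ≫ f) := by
    intro i k Z z z' h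
    have h1 := hv i k (z ≫ pullback.fst _ _ ≫ e) (z ≫ pullback.snd _ _) (z' ≫ pullback.snd _ _)
      (by simp only [e, Category.assoc]; rw [pullback.condition, ← pullback.condition_assoc])
      (by rw [h]; simp only [e, Category.assoc]; rw [pullback.condition, ← pullback.condition_assoc])
    rw [← Category.assoc, ← Category.assoc z']
    convert h1 using 2
    · refine pullback.hom_ext ?_ ?_ <;> simp [c]
    · refine pullback.hom_ext ?_ ?_ <;> simp [c, h]
  let g : pullback T.hom f ⟶ G.left := 𝒰.glueMorphisms (fun i => c i ≫ (v i).left ≫ pullback.fst G.hom (w i ≫ f))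
    fun i k => key i k _ _ (by rw [← Category.assoc, ← Category.assoc]; exact congrArg (· ≫ e) pullback.condition)
  have hg : ∀ i, pullback.fst (pullback.snd T.hom f) (w i) ≫ g = c i ≫ (v i).left ≫ pullback.fst G.hom (w i ≫ f) :=
    fun i => 𝒰.ι_glueMorphisms _ _ i
  have hcomp : ∀ {Z : Scheme.{u}} (g₁ g₂ : Z ⟶ pullback T.hom f), g₁ ≫ e = g₂ ≫ e → g₁ ≫ g = g₂ ≫ g := by
    intro Z g₁ g₂ h
    refine Scheme.Cover.hom_ext (𝒰.pullback₁ g₁) _ _ fun i => ?_
    let P := pullback g₁ (𝒰.f i)
    let p₁ : P ⟶ Z := pullback.fst _ _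
    refine Scheme.Cover.hom_ext (𝒰.pullback₁ (p₁ ≫ g₂)) _ _ fun k => ?_
    let Q := pullback (p₁ ≫ g₂) (𝒰.f k)
    let a : Q ⟶ P := pullback.fst _ _
    have e1 : a ≫ p₁ ≫ g₁ = (a ≫ pullback.snd _ _) ≫ 𝒰.f i := by
      rw [Category.assoc]; exact congrArg (a ≫ ·) pullback.condition
    have e2 : a ≫ p₁ ≫ g₂ = pullback.snd (p₁ ≫ g₂) (𝒰.f k) ≫ 𝒰.f k := pullback.condition
    show a ≫ p₁ ≫ g₁ ≫ g = a ≫ p₁ ≫ g₂ ≫ g
    rw [reassoc_of% e1, reassoc_of% e2]
    refine Eq.trans ?_ (Eq.trans (key i k (a ≫ pullback.snd _ _) (pullback.snd (p₁ ≫ g₂) (𝒰.f k)) ?_) ?_)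
    · exact congrArg (a ≫ pullback.snd _ _ ≫ ·) (hg i)
    · have h' := congrArg (fun k => a ≫ p₁ ≫ k) h
      simp only [reassoc_of% e1, reassoc_of% e2, Category.assoc] at h'
      simp only [Category.assoc]
      exact h'
    · exact (congrArg (pullback.snd (p₁ ≫ g₂) (𝒰.f k) ≫ ·) (hg k)).symm
  let ul : T.left ⟶ G.left := EffectiveEpi.desc e g hcomp
  have hul : e ≫ ul = g := EffectiveEpi.fac e g hcomp
  let u : T ⟶ G := Over.homMk ul (by
    rw [← cancel_epi e]
    refine 𝒰.hom_ext _ _ fun i => ?_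
    show pullback.fst (pullback.snd T.hom f) (w i) ≫ e ≫ ul ≫ G.hom = pullback.fst _ _ ≫ e ≫ T.hom
    rw [reassoc_of% hul, reassoc_of% (hg i), pullback.condition, ← Category.assoc (v i).left]
    have hover : (v i).left ≫ pullback.snd G.hom (w i ≫ f) = pullback.snd T.hom (w i ≫ f) := Over.w (v i)
    rw [hover]
    simp only [c, pullback.lift_snd_assoc, e]
    rw [pullback.condition (f := T.hom), ← pullback.condition_assoc])
  refine ⟨u, fun i => ?_⟩
  let d : pullback T.hom (w i ≫ f) ⟶ pullback (pullback.snd T.hom f) (w i) :=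
    pullback.lift (pullback.lift (pullback.fst _ _) (pullback.snd _ _ ≫ w i)
      (by rw [Category.assoc]; exact pullback.condition)) (pullback.snd _ _) (pullback.lift_snd _ _ _)
  have hdc : d ≫ c i = 𝟙 _ := by
    refine pullback.hom_ext ?_ ?_ <;> simp [c, d, e]
  refine Over.OverMorphism.ext (pullback.hom_ext ?_ ?_)
  · rw [ActBC.pullback_map_left_fst]
    show pullback.fst T.hom (w i ≫ f) ≫ ul = _
    have e3 : d ≫ pullback.fst _ _ ≫ e = pullback.fst T.hom (w i ≫ f) := by simp [d, e]
    rw [← e3, Category.assoc, Category.assoc, hul]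
    refine (congrArg (d ≫ ·) (hg i)).trans ?_
    rw [reassoc_of% hdc]
  · exact (Over.w _).trans (Over.w (v i)).symm

end Groth.Agent.TorusLift
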