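import Mathlib

/-!
Group algebras of finite groups of invertible order are étale.
-/

set_option autoImplicit false

noncomputable section

universe u

namespace Groth.Agent.TorusLift

theorem formallyUnramified_monoidAlgebra {A : Type u} [CommRing A] {N : Type} [CommGroup N]
    (hN : IsUnit ((Nat.card N : ℕ) : A)) : Algebra.FormallyUnramified A (MonoidAlgebra A N) := by
  rw [Algebra.formallyUnramified_iff]
  have h0 : ∀ x : N, KaehlerDifferential.D A (MonoidAlgebra A N) (MonoidAlgebra.single x (1 : A)) = 0 := by
    intro x
    have hx : (MonoidAlgebra.single x (1 : A)) ^ Nat.card N = 1 := by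
      rw [MonoidAlgebra.single_pow, one_pow, pow_card_eq_one', MonoidAlgebra.one_def]
    have h := (KaehlerDifferential.D A (MonoidAlgebra A N)).leibniz_pow (MonoidAlgebra.single x (1 : A)) (Nat.card N)
    rw [hx, Derivation.map_one_eq_zero, ← Nat.cast_smul_eq_nsmul A] at h
    have h2 : MonoidAlgebra.single x (1 : A) ^ (Nat.card N - 1) •
        KaehlerDifferential.D A (MonoidAlgebra A N) (MonoidAlgebra.single x 1) = 0 :=
      (hN.smul_eq_zero).1 h.symm
    have hu : IsUnit (MonoidAlgebra.single x (1 : A)) :=
      (Group.isUnit x).map (MonoidAlgebra.of A N)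
    exact (hu.pow _).smul_eq_zero.1 h2
  refine (Submodule.subsingleton_iff (MonoidAlgebra A N)).1 ?_
  refine subsingleton_of_bot_eq_top ?_
  rw [eq_comm, ← KaehlerDifferential.span_range_derivation, Submodule.span_eq_bot]
  rintro _ ⟨y, rfl⟩
  induction y using MonoidAlgebra.induction_linear with
  | zero => simp
  | add p q hp hq => rw [map_add, hp, hq, add_zero]
  | single m r =>
    have e : MonoidAlgebra.single m r = r • MonoidAlgebra.single m (1 : A) := by simp
    rw [e, Derivation.map_smul, h0, smul_zero]

theorem etale_monoidAlgebra {A : Type u} [CommRing A] {N : Type} [CommGroup N] [Finite N]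
    (hN : IsUnit ((Nat.card N : ℕ) : A)) : Algebra.Etale A (MonoidAlgebra A N) := by
  haveI := formallyUnramified_monoidAlgebra hN
  haveI : Module.Finite A (MonoidAlgebra A N) := Module.Finite.of_basis (MonoidAlgebra.basis N A)
  haveI : Module.FinitePresentation A (MonoidAlgebra A N) := Module.finitePresentation_of_projective A _
  haveI : Algebra.FinitePresentation A (MonoidAlgebra A N) := Algebra.FinitePresentation.of_finitePresentation A _
  exact Algebra.Etale.of_formallyUnramified_of_flat

end Groth.Agent.TorusLift
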