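import Groth.Agent.TorusLiftLib.Local
import Groth.Agent.TorusLiftLib.Desc
import Groth.Agent.MultTorusLib.DS

/-!
Central homomorphisms from tori lift uniquely along nilpotent ideals.
-/

set_option autoImplicit false
set_option linter.style.haveILetI false
set_option backward.isDefEq.respectTransparency false
set_option maxHeartbeats 2000000
set_option synthInstance.maxHeartbeats 400000
set_option synthInstance.maxSize 4000
set_option maxSynthPendingDepth 4

noncomputable section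

universe u

open CategoryTheory CategoryTheory.Limits MonoidalCategory CartesianMonoidalCategory AlgebraicGeometry CoactBr
open scoped MonObj TensorProduct

attribute [-instance] CategoryTheory.Hom.commGroup

namespace Groth.Agent.TorusLift

attribute [local instance] CoactBr.braidedAlgSpecOf

open Groth.Agent.FreeAct (DA)

section Lifts

variable {S S₀ : Scheme.{u}} (j : S₀ ⟶ S) {T G : Over S} (v₀ : Red.bc j T ⟶ Red.bc j G)

/-- Agreement with the given morphism at all points over the subscheme. -/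
def Lifts {P : Scheme.{u}} (p : P ⟶ S) (v : Red.bc p T ⟶ Red.bc p G) : Prop :=
  ∀ ⦃Z : Scheme.{u}⦄ (t : Z ⟶ T.left) (a : Z ⟶ P) (b : Z ⟶ S₀) (ha : t ≫ T.hom = a ≫ p)
    (hb : t ≫ T.hom = b ≫ j),
    pullback.lift t a ha ≫ v.left ≫ pullback.fst G.hom p = pullback.lift t b hb ≫ v₀.left ≫ pullback.fst G.hom j

theorem wmap_point [GrpObj T] [GrpObj G] {P' P : Scheme.{u}} (g : P' ⟶ P) (p : P ⟶ S) (q : P' ⟶ S) (h : g ≫ p = q)
    (v : Red.bc p T ⟶ Red.bc p G) {Z : Scheme.{u}} (t : Z ⟶ T.left) (a : Z ⟶ P') (ha : t ≫ T.hom = a ≫ q) :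
    pullback.lift t a ha ≫ (DescHom.wmap p v g q h).left ≫ pullback.fst G.hom q =
      pullback.lift t (a ≫ g) (by rw [ha, Category.assoc, h]) ≫ v.left ≫ pullback.fst G.hom p := by
  rw [DescHom.wmap_fst, ← Category.assoc]
  congr 1
  refine pullback.hom_ext ?_ ?_ <;> simp

theorem lifts_wmap [GrpObj T] [GrpObj G] {P' P : Scheme.{u}} (g : P' ⟶ P) {p : P ⟶ S} {q : P' ⟶ S} (h : g ≫ p = q)
    {v : Red.bc p T ⟶ Red.bc p G} (hv : Lifts j v₀ p v) : Lifts j v₀ q (DescHom.wmap p v g q h) := by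
  intro Z t a b ha hb
  rw [wmap_point]
  exact hv t (a ≫ g) b _ hb

theorem lifts_map_iff (u : T ⟶ G) : (Over.pullback j).map u = v₀ ↔
    ∀ ⦃Z : Scheme.{u}⦄ (t : Z ⟶ T.left) (b : Z ⟶ S₀) (hb : t ≫ T.hom = b ≫ j),
      t ≫ u.left = pullback.lift t b hb ≫ v₀.left ≫ pullback.fst G.hom j := by
  constructor
  · rintro rfl Z t b hb
    rw [ActBC.pullback_map_left_fst, pullback.lift_fst_assoc]
  · intro h
    refine Over.OverMorphism.ext (pullback.hom_ext ?_ ?_)
    · rw [ActBC.pullback_map_left_fst]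
      exact (h (pullback.fst T.hom j) (pullback.snd T.hom j) pullback.condition).trans (by
        rw [show pullback.lift (pullback.fst T.hom j) (pullback.snd T.hom j) pullback.condition = 𝟙 _ from
          pullback.hom_ext (by simp) (by simp)]
        exact Category.id_comp _)
    · exact (Over.w _).trans (Over.w v₀).symm

end Lifts

theorem nonempty_dsIso {S : Scheme.{u}} {T : Over S} [GrpObj T] {U : Scheme.{u}} (g : U ⟶ S) {r : ℕ}
    (e : Grp.mk (Red.bc g T) ≅ Grp.mk (Red.DS U (Fin r → ℤ))) {C : Type u} [CommRing C]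
    (h : Spec (CommRingCat.of C) ⟶ U) (q : Spec (CommRingCat.of C) ⟶ S) (hq : h ≫ g = q) :
    ∃ v : sp C (DA C (Fin r → ℤ)) ≅ Red.bc q T, IsMonHom v.hom := by
  obtain ⟨d, hd⟩ := RedCharZeroLib.exists_DS_bc h (Fin r → ℤ)
  obtain ⟨w, hw, hw'⟩ := TorusField.exists_DS_iso C (Fin r → ℤ)
  haveI := hd; haveI := hw
  let j : Red.bc g T ≅ Red.DS U (Fin r → ℤ) := (Grp.forget _).mapIso e
  haveI : IsMonHom j.hom := e.hom.hom.isMonHom_hom
  haveI : IsMonHom j.inv := e.inv.hom.isMonHom_hom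
  haveI : IsMonHom (M := Red.bc h (Red.DS U (Fin r → ℤ))) (N := Red.bc h (Red.bc g T)) ((Over.pullback h).map j.inv) :=
    DiagRep.isMonHom_bc_map h j.inv
  let c := ActBC.bcCompIso h g T hq
  haveI : IsMonHom c.hom := ActBC.bcCompIso_isMonHom _ _ _
  refine ⟨w ≪≫ d ≪≫ (Over.pullback h).mapIso j.symm ≪≫ c, ?_⟩
  exact inferInstanceAs (IsMonHom (w.hom ≫ d.hom ≫ (Over.pullback h).map j.inv ≫ c.hom))

theorem isMonHom_comp {S : Scheme.{u}} {X Y Z : Over S} [GrpObj X] [GrpObj Y] [GrpObj Z] {f : X ⟶ Y} {g : Y ⟶ Z}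
    (hf : IsMonHom f) (hg : IsMonHom g) : IsMonHom (f ≫ g) :=
  inferInstance

theorem central_conj {S : Scheme.{u}} {T T' G G' : Over S} [GrpObj T] [GrpObj T'] [GrpObj G] [GrpObj G']
    {f : T ⟶ G} (hf : MultLift.Central f) (a : T' ⟶ T) (b : G ≅ G') [IsMonHom b.hom] :
    MultLift.Central (a ≫ f ≫ b.hom) := by
  intro X g x
  obtain ⟨g₀, rfl⟩ : ∃ g₀, g₀ ≫ b.hom = g := ⟨g ≫ b.inv, by rw [Category.assoc, Iso.inv_hom_id, Category.comp_id]⟩
  have h := congrArg (· ≫ b.hom) (hf X g₀ (x ≫ a))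
  simp only [MonObj.mul_comp, Category.assoc] at h
  exact h

/-- The given morphism, transported to a base change. -/
theorem exists_transport {S S₀ P P₀ : Scheme.{u}} (j : S₀ ⟶ S) {T G : Over S} [GrpObj T] [GrpObj G]
    (v₀ : Red.bc j T ⟶ Red.bc j G) [IsMonHom v₀] (k : P₀ ⟶ P) (p : P ⟶ S) (p₀ : P₀ ⟶ S₀)
    (h : p₀ ≫ j = k ≫ p) {T₁ : Over P} [GrpObj T₁] (e : T₁ ≅ Red.bc p T) [IsMonHom e.hom] :
    ∃ v₁ : Red.bc k T₁ ⟶ Red.bc k (Red.bc p G), IsMonHom v₁ ∧ (MultLift.Central v₀ → MultLift.Central v₁) ∧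
      (∀ v' : Red.bc p T ⟶ Red.bc p G, ((Over.pullback k).map (e.hom ≫ v') = v₁ ↔
        DescHom.wmap p v' k (k ≫ p) rfl = DescHom.wmap j v₀ p₀ (k ≫ p) h)) ∧
      ∀ {H : Over S} (b : H ⟶ T) (m : H ⟶ G), (Over.pullback j).map b ≫ v₀ = (Over.pullback j).map m →
        ∀ {K : Over P} (a : K ⟶ Red.bc p H) (x : K ⟶ T₁), a ≫ (Over.pullback p).map b = x ≫ e.hom →
          (Over.pullback k).map (a ≫ (Over.pullback p).map m) = (Over.pullback k).map x ≫ v₁ := by
  let w₀ := DescHom.wmap j v₀ p₀ (k ≫ p) h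
  haveI : IsMonHom w₀ := DescHom.isMonHom_wmap j v₀ _ _ _
  let cT := ActBC.bcCompIso k p T rfl
  let cG := ActBC.bcCompIso k p G rfl
  haveI : IsMonHom cT.hom := ActBC.bcCompIso_isMonHom _ _ _
  haveI : IsMonHom cG.hom := ActBC.bcCompIso_isMonHom _ _ _
  haveI : IsMonHom cG.symm.hom := inferInstanceAs (IsMonHom cG.inv)
  haveI : IsMonHom (M := Red.bc k T₁) (N := Red.bc k (Red.bc p T)) ((Over.pullback k).map e.hom) :=
    DiagRep.isMonHom_bc_map k e.hom
  refine ⟨((Over.pullback k).map e.hom ≫ cT.hom) ≫ w₀ ≫ cG.symm.hom, inferInstance,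
    fun hc₀ => central_conj (DescHom.central_wmap j hc₀ _ _ _) _ _, fun v' => ?_,
    fun {H} b m hbm {K} a x hax => ?_⟩
  rotate_left
  · have e1 : (Over.pullback (k ≫ p)).map b ≫ w₀ = (Over.pullback (k ≫ p)).map m := by
      refine Over.OverMorphism.ext (pullback.hom_ext ?_ ?_)
      · rw [Over.comp_left, Category.assoc, DescHom.wmap_fst, ActBC.pullback_map_left_fst]
        let l : pullback H.hom (k ≫ p) ⟶ pullback H.hom j := pullback.lift (pullback.fst _ _) (pullback.snd _ _ ≫ p₀)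
          (by rw [Category.assoc, h, pullback.condition])
        have e2 : ((Over.pullback (k ≫ p)).map b).left ≫ pullback.lift (pullback.fst T.hom (k ≫ p))
            (pullback.snd T.hom (k ≫ p) ≫ p₀) (by rw [Category.assoc, h, pullback.condition]) =
            l ≫ ((Over.pullback j).map b).left := by
          refine pullback.hom_ext ?_ ?_
          · simp [l]
          · simp [l]
        have e3 := congrArg (fun y => l ≫ y.left ≫ pullback.fst G.hom j) hbm
        simp only [Over.comp_left, Category.assoc, ActBC.pullback_map_left_fst] at e3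
        rw [reassoc_of% e2, e3, pullback.lift_fst_assoc]
      · exact (Over.w _).trans (Over.w _).symm
    have e5 : (Over.pullback k).map ((Over.pullback p).map b) ≫ cT.hom ≫ w₀ ≫ cG.inv =
        (Over.pullback k).map ((Over.pullback p).map m) := by
      rw [← Category.assoc ((Over.pullback k).map ((Over.pullback p).map b)), ActBC.bcCompIso_hom_naturality,
        Category.assoc, reassoc_of% e1, ← Category.assoc, ← ActBC.bcCompIso_hom_naturality, Category.assoc,
        Iso.hom_inv_id, Category.comp_id]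
    have e4 := congrArg (fun y => (Over.pullback k).map y ≫ cT.hom ≫ w₀ ≫ cG.inv) hax
    simp only [Functor.map_comp, Category.assoc, e5] at e4
    simp only [Functor.map_comp, Category.assoc, Iso.symm_hom]
    exact e4
  rw [Functor.map_comp, Category.assoc]
  constructor
  · intro hh
    rw [cancel_epi] at hh
    show cT.inv ≫ (Over.pullback k).map v' ≫ cG.hom = w₀
    rw [hh]
    simp
  · intro hh
    rw [cancel_epi]
    show _ = cT.hom ≫ w₀ ≫ cG.inv
    rw [← show cT.inv ≫ (Over.pullback k).map v' ≫ cG.hom = w₀ from hh]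
    simp

/-- Agreement at the universal point is agreement everywhere. -/
theorem lifts_iff {S S₀ P P₀ : Scheme.{u}} {j : S₀ ⟶ S} {T G : Over S} [GrpObj T] [GrpObj G]
    (v₀ : Red.bc j T ⟶ Red.bc j G) (k : P₀ ⟶ P) {p : P ⟶ S} (p₀ : P₀ ⟶ S₀) (hp₀ : p₀ ≫ j = k ≫ p)
    (hfac : ∀ ⦃Z : Scheme.{u}⦄ (a : Z ⟶ P) (b : Z ⟶ S₀), a ≫ p = b ≫ j → ∃ a', a' ≫ k = a ∧ a' ≫ p₀ = b)
    (v' : Red.bc p T ⟶ Red.bc p G) :
    DescHom.wmap p v' k (k ≫ p) rfl = DescHom.wmap j v₀ p₀ (k ≫ p) hp₀ ↔ Lifts j v₀ p v' := by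
  constructor
  · intro h Z t a b ha hb
    obtain ⟨a', rfl, rfl⟩ := hfac a b (ha.symm.trans hb)
    have ha' : t ≫ T.hom = a' ≫ k ≫ p := by rw [ha, Category.assoc]
    exact (wmap_point k p (k ≫ p) rfl v' t a' ha').symm.trans
      ((congrArg (fun x : Red.bc (k ≫ p) T ⟶ Red.bc (k ≫ p) G =>
        pullback.lift t a' ha' ≫ x.left ≫ pullback.fst G.hom (k ≫ p)) h).trans
        (wmap_point p₀ j (k ≫ p) hp₀ v₀ t a' ha'))
  · intro h
    refine Over.OverMorphism.ext (pullback.hom_ext ?_ ?_)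
    · have h2 := h (pullback.fst T.hom (k ≫ p)) (pullback.snd T.hom _ ≫ k) (pullback.snd T.hom _ ≫ p₀)
        (by rw [Category.assoc]; exact pullback.condition) (by rw [Category.assoc, hp₀]; exact pullback.condition)
      rw [DescHom.wmap_fst, DescHom.wmap_fst]
      exact h2
    · exact (Over.w _).trans (Over.w _).symm

variable {A : Type u} [CommRing A] (J : Ideal A)

/-- The closed subscheme. -/
abbrev jq : Spec (CommRingCat.of (A ⧸ J)) ⟶ Spec (CommRingCat.of A) :=
  Spec.map (CommRingCat.ofHom (Ideal.Quotient.mk J))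

/-- The reduction of a base change is the base change of the reduction. -/
theorem exists_factor_quotient {A C : Type u} [CommRing A] [CommRing C] (J : Ideal A)
    (φ : CommRingCat.of A ⟶ CommRingCat.of C) ⦃Z : Scheme.{u}⦄ (a : Z ⟶ Spec (CommRingCat.of C))
    (b : Z ⟶ Spec (CommRingCat.of (A ⧸ J))) (hab' : a ≫ Spec.map φ = b ≫ jq J) :
    ∃ a', a' ≫ Spec.map (CommRingCat.ofHom (Ideal.Quotient.mk (J.map φ.hom))) = a ∧
      a' ≫ Spec.map (CommRingCat.ofHom (Ideal.quotientMap (J.map φ.hom) φ.hom Ideal.le_comap_map)) = b := by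
  let JC : Ideal C := J.map φ.hom
  let jC := Spec.map (CommRingCat.ofHom (Ideal.Quotient.mk JC))
  let p₀ : Spec (CommRingCat.of (C ⧸ JC)) ⟶ Spec (CommRingCat.of (A ⧸ J)) :=
    Spec.map (CommRingCat.ofHom (Ideal.quotientMap JC φ.hom Ideal.le_comap_map))
  haveI : IsClosedImmersion (jq J) := IsClosedImmersion.spec_of_surjective _ Ideal.Quotient.mk_surjective
  have hp₀' : jC ≫ Spec.map φ = p₀ ≫ jq J := by
    rw [← Spec.map_comp, ← Spec.map_comp, ← CommRingCat.ofHom_comp]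
    exact congrArg Spec.map (CommRingCat.hom_ext (RingHom.ext fun _ => rfl))
  obtain ⟨a', ha'⟩ : ∃ a', a' ≫ jC = a := by
    let α : C →+* Γ(Z, ⊤) := ((Scheme.ΓSpecIso (CommRingCat.of C)).inv ≫ a.appTop).hom
    let β : A ⧸ J →+* Γ(Z, ⊤) := ((Scheme.ΓSpecIso (CommRingCat.of (A ⧸ J))).inv ≫ b.appTop).hom
    have hab : α.comp φ.hom = β.comp (Ideal.Quotient.mk J) := by
      have hh := congrArg Scheme.Hom.appTop hab'
      simp only [Scheme.Hom.comp_appTop] at hh
      have h2 := congrArg (fun k => (Scheme.ΓSpecIso (CommRingCat.of A)).inv ≫ k) hh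
      simp only [← Category.assoc, ← Scheme.ΓSpecIso_inv_naturality] at h2
      exact congrArg CommRingCat.Hom.hom h2
    have hker : ∀ x ∈ JC, α x = 0 := by
      intro x hx
      refine RingHom.mem_ker.1 (Ideal.map_le_iff_le_comap.2 ?_ hx)
      intro y hy
      rw [Ideal.mem_comap, RingHom.mem_ker, ← RingHom.comp_apply, hab, RingHom.comp_apply,
        Ideal.Quotient.eq_zero_iff_mem.2 hy, map_zero]
    refine ⟨Z.toSpecΓ ≫ Spec.map (CommRingCat.ofHom (Ideal.Quotient.lift JC α hker)), ?_⟩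
    rw [Category.assoc, ← Spec.map_comp, ← CommRingCat.ofHom_comp,
      show (Ideal.Quotient.lift JC α hker).comp (Ideal.Quotient.mk JC) = α from RingHom.ext fun x => rfl]
    show Z.toSpecΓ ≫ Spec.map ((Scheme.ΓSpecIso (CommRingCat.of C)).inv ≫ a.appTop) = a
    rw [Spec.map_comp, ← Category.assoc, ← Scheme.toSpecΓ_naturality, Category.assoc,
      toSpecΓ_SpecMap_ΓSpecIso_inv, Category.comp_id]
  refine ⟨a', ha', ?_⟩
  rw [← cancel_mono (jq J), Category.assoc, ← hp₀', ← Category.assoc, ha', hab']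

variable {A : Type u} [CommRing A] (J : Ideal A)

variable {G T : Over (Spec (CommRingCat.of A))} [GrpObj G] [GrpObj T] [Flat G.hom] [QuasiCompact G.hom]
  [QuasiSeparated G.hom] [LocallyOfFinitePresentation G.hom] (v₀ : Red.bc (jq J) T ⟶ Red.bc (jq J) G) [IsMonHom v₀]
  (hc₀ : MultLift.Central v₀)

include hc₀ in
/-- The lifting over an affine chart on which the torus splits. -/
theorem existsUnique_affine {n : ℕ} (hn : n ≠ 0) (hJ : J ^ n = ⊥) {C : Type u} [CommRing C]
    (q : Spec (CommRingCat.of C) ⟶ Spec (CommRingCat.of A)) (r : ℕ)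
    (e : sp C (DA C (Fin r → ℤ)) ≅ Red.bc q T) [IsMonHom e.hom] {m : ℕ} (hm1 : 1 < m) (hm : IsUnit (m : C)) :
    ∃! v : Red.bc q T ⟶ Red.bc q G, IsMonHom v ∧ Lifts (jq J) v₀ q v := by
  obtain ⟨φ, rfl⟩ : ∃ φ : CommRingCat.of A ⟶ CommRingCat.of C, Spec.map φ = q := ⟨Spec.preimage q, Spec.map_preimage q⟩
  let JC : Ideal C := J.map φ.hom
  have hJC : JC ^ n = ⊥ := by rw [← Ideal.map_pow, hJ, Ideal.map_bot]
  let jC := Spec.map (CommRingCat.ofHom (Ideal.Quotient.mk JC))
  let p₀ : Spec (CommRingCat.of (C ⧸ JC)) ⟶ Spec (CommRingCat.of (A ⧸ J)) :=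
    Spec.map (CommRingCat.ofHom (Ideal.quotientMap JC φ.hom Ideal.le_comap_map))
  have hp₀ : jC ≫ Spec.map φ = p₀ ≫ (jq J) := by
    rw [← Spec.map_comp, ← Spec.map_comp, ← CommRingCat.ofHom_comp]
    exact congrArg Spec.map (CommRingCat.hom_ext (RingHom.ext fun _ => rfl))
  haveI : IsClosedImmersion (jq J) := IsClosedImmersion.spec_of_surjective _ Ideal.Quotient.mk_surjective
  haveI : Flat (Red.bc (Spec.map φ) G).hom := inferInstanceAs (Flat (pullback.snd G.hom _))
  haveI : QuasiCompact (Red.bc (Spec.map φ) G).hom := inferInstanceAs (QuasiCompact (pullback.snd G.hom _))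
  haveI : QuasiSeparated (Red.bc (Spec.map φ) G).hom := inferInstanceAs (QuasiSeparated (pullback.snd G.hom _))
  haveI : LocallyOfFinitePresentation (Red.bc (Spec.map φ) G).hom :=
    inferInstanceAs (LocallyOfFinitePresentation (pullback.snd G.hom _))
  let w₀ := DescHom.wmap (jq J) v₀ p₀ (jC ≫ Spec.map φ) hp₀.symm
  obtain ⟨v₁, hm₁, hc₁', hv₁, -⟩ := exists_transport (jq J) v₀ jC (Spec.map φ) p₀ hp₀.symm e
  have hc₁ := hc₁' hc₀
  haveI := hm₁
  obtain ⟨v, ⟨hv, hv'⟩, huniq⟩ := existsUnique_lift_split JC hn hJC hm1 hm (Red.bc (Spec.map φ) G) r v₁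
    fun X x g => (hc₁ X g x).symm
  haveI := hv
  -- the reduction condition on a candidate
  have hred : ∀ v' : Red.bc (Spec.map φ) T ⟶ Red.bc (Spec.map φ) G,
      ((Over.pullback jC).map (e.hom ≫ v') = v₁ ↔ Lifts (jq J) v₀ (Spec.map φ) v') := by
    intro v'
    have h1 : (Over.pullback jC).map (e.hom ≫ v') = v₁ ↔
        DescHom.wmap (Spec.map φ) v' jC (jC ≫ Spec.map φ) rfl = w₀ := hv₁ v'
    rw [h1]
    exact lifts_iff v₀ jC p₀ hp₀.symm (exists_factor_quotient J φ) v'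
  haveI : IsMonHom e.inv := inferInstance
  refine ⟨e.inv ≫ v, ⟨inferInstance, (hred _).1 (by rw [Iso.hom_inv_id_assoc]; exact hv')⟩, fun v' hv'' => ?_⟩
  haveI := hv''.1
  rw [← huniq (e.hom ≫ v') ⟨inferInstance, (hred v').2 hv''.2⟩, Iso.inv_hom_id_assoc]

end Groth.Agent.TorusLift
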