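import Groth.Agent.TorsLimLib.Main
import Groth.Agent.TorusLiftLib.Etale
import Groth.Agent.S8396
import Groth.Agent.MultSubLib.Basic
import Groth.Agent.CentreRedLib.Main

/-!
Central homomorphisms from split tori lift uniquely along nilpotent ideals, if some integer is invertible.
-/

set_option autoImplicit false
set_option linter.style.haveILetI false
set_option backward.isDefEq.respectTransparency false
set_option maxHeartbeats 2000000
set_option synthInstance.maxHeartbeats 400000
set_option synthInstance.maxSize 4000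
set_option maxSynthPendingDepth 4

noncomputable section

universe u

open CategoryTheory CategoryTheory.Limits MonoidalCategory CartesianMonoidalCategory AlgebraicGeometry CoactBr
open scoped MonObj TensorProduct

attribute [-instance] CategoryTheory.Hom.commGroup

namespace Groth.Agent.TorusLift

attribute [local instance] CoactBr.braidedAlgSpecOf

open Groth.Agent.FreeAct (DA)
open Groth.Agent.DiagRep (bcHom)
open TorsLim (red push IsHom₀)
open PowEtCentralLib (inc res resMap tau)

variable {A : Type u} [CommRing A] (J : Ideal A)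

local notation "jA" => Spec.map (CommRingCat.ofHom (Ideal.Quotient.mk J))

/-- The reduced group algebra is the restriction. -/
theorem exists_red_iso (X : Type) [CommGroup X] :
    ∃ κ : sp A (MonoidAlgebra (A ⧸ J) X) ⟶ res jA (sp A (MonoidAlgebra A X)),
      IsIso κ ∧ κ ≫ inc jA (sp A (MonoidAlgebra A X)) = pt (red J X) := by
  let T : Over (Spec (CommRingCat.of A)) := sp A (MonoidAlgebra A X)
  let e : (A ⧸ J) ⊗[A] MonoidAlgebra A X ≃ₐ[A ⧸ J] MonoidAlgebra (A ⧸ J) X := MonoidAlgebra.scalarTensorEquiv A (A ⧸ J)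
  let b : Red.bc jA T ⟶ sp (A ⧸ J) ((A ⧸ J) ⊗[A] MonoidAlgebra A X) := bcHom A (A ⧸ J) (MonoidAlgebra A X)
  haveI : IsIso b := inferInstanceAs (IsIso (bcHom _ _ _))
  haveI : IsIso b.left := inferInstanceAs (IsIso ((Over.forget _).map b))
  let el : Spec (CommRingCat.of (MonoidAlgebra (A ⧸ J) X)) ⟶ Spec (CommRingCat.of ((A ⧸ J) ⊗[A] MonoidAlgebra A X)) :=
    Spec.map e.toRingEquiv.toCommRingCatIso.hom
  haveI : IsIso el := inferInstance
  have hb : b.left ≫ Spec.map (CommRingCat.ofHom
      (Algebra.TensorProduct.includeRight : MonoidAlgebra A X →ₐ[A] (A ⧸ J) ⊗[A] MonoidAlgebra A X).toRingHom) =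
      pullback.fst T.hom jA := DiagRep.bcHom_includeRight A (A ⧸ J) (MonoidAlgebra A X)
  have hl : (el ≫ inv b.left) ≫ pullback.fst T.hom jA = (pt (red J X)).left := by
    rw [Category.assoc, ← hb, IsIso.inv_hom_id_assoc, pt_left]
    refine (Spec.map_comp _ _).symm.trans (congrArg Spec.map (CommRingCat.hom_ext (RingHom.ext fun x => ?_)))
    show e ((1 : A ⧸ J) ⊗ₜ[A] x) = red J X x
    rw [MonoidAlgebra.scalarTensorEquiv_tmul, one_smul]
  let κ : sp A (MonoidAlgebra (A ⧸ J) X) ⟶ res jA T := Over.homMk (el ≫ inv b.left) (by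
    show (el ≫ inv b.left) ≫ pullback.snd T.hom jA ≫ jA = _
    rw [← pullback.condition, ← Category.assoc, hl]
    exact Over.w (pt (red J X)))
  refine ⟨κ, ?_, ?_⟩
  · haveI : IsIso ((Over.forget _).map κ) := inferInstanceAs (IsIso (el ≫ inv b.left))
    exact isIso_of_reflects_iso κ (Over.forget _)
  · refine Over.OverMorphism.ext ?_
    rw [Over.comp_left, PowEtCentralLib.inc_left]
    exact hl

/-- The reduction maps characters modulo an integer. -/
def modPow (r n : ℕ) : Multiplicative (Fin r → ℤ) →* Multiplicative (Fin r → ZMod n) :=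
  AddMonoidHom.toMultiplicative ((Int.castAddHom (ZMod n)).compLeft (Fin r))

theorem modPow_sep {r q : ℕ} (hq : 1 < q) (s : Finset (Multiplicative (Fin r → ℤ))) :
    ∃ k, ∀ l, k ≤ l → Set.InjOn (modPow r (q ^ l)) s := by
  classical
  let B : ℕ := s.sup fun x => Finset.univ.sup fun i => (Multiplicative.toAdd x i).natAbs
  refine ⟨2 * B + 1, fun l hl x hx y hy hxy => ?_⟩
  have hb : ∀ z ∈ s, ∀ i, (Multiplicative.toAdd z i).natAbs ≤ B := fun z hz i =>
    le_trans (Finset.le_sup (f := fun i => (Multiplicative.toAdd z i).natAbs) (Finset.mem_univ i))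
      (Finset.le_sup (f := fun x => Finset.univ.sup fun i => (Multiplicative.toAdd x i).natAbs) hz)
  have hlt : 2 * B + 1 < q ^ l := lt_of_le_of_lt hl (Nat.lt_pow_self hq)
  refine Multiplicative.toAdd.injective (funext fun i => ?_)
  have h : ((Multiplicative.toAdd x i : ℤ) : ZMod (q ^ l)) = ((Multiplicative.toAdd y i : ℤ) : ZMod (q ^ l)) :=
    congrFun (congrArg Multiplicative.toAdd hxy) i
  have hd := (ZMod.intCast_eq_intCast_iff_dvd_sub _ _ _).1 h
  have h1 := hb x hx i
  have h2 := hb y hy i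
  by_contra hne
  have h3 : (Multiplicative.toAdd y i - Multiplicative.toAdd x i).natAbs ≠ 0 := by omega
  have h4 := Nat.le_of_dvd (Nat.pos_of_ne_zero h3) (Int.natAbs_dvd_natAbs.2 hd)
  simp only [Int.natAbs_natCast] at h4
  omega

/-- Reduction of characters between two integers. -/
def redPow (r : ℕ) {a b : ℕ} (h : a ∣ b) : Multiplicative (Fin r → ZMod b) →* Multiplicative (Fin r → ZMod a) :=
  AddMonoidHom.toMultiplicative ((ZMod.castHom h (ZMod a)).toAddMonoidHom.compLeft (Fin r))

theorem redPow_comp (r : ℕ) {a b : ℕ} (h : a ∣ b) : (redPow r h).comp (modPow r b) = modPow r a :=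
  MonoidHom.ext fun m => Multiplicative.toAdd.injective (funext fun i => map_intCast (ZMod.castHom h (ZMod a)) _)

/-- **Homomorphisms from split tori given on the torsion and modulo a nilpotent ideal.** -/
theorem existsUnique_of_torsion {n : ℕ} (hn : n ≠ 0) (hJ : J ^ n = ⊥) {q : ℕ} (hq1 : 1 < q)
    (G : Over (Spec (CommRingCat.of A))) [GrpObj G] (r : ℕ)
    (v₀ : Red.bc jA (sp A (DA A (Fin r → ℤ))) ⟶ Red.bc jA G) [IsMonHom v₀]
    (u : ∀ k, sp A (MonoidAlgebra A (Multiplicative (Fin r → ZMod (q ^ k)))) ⟶ G) (hu : ∀ k, IsMonHom (u k))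
    (hcoh : ∀ j k (h : j ≤ k), pt (push (A := A) A (redPow r (pow_dvd_pow q h))) ≫ u k = u j)
    (hu' : ∀ k, (Over.pullback jA).map (u k) = (Over.pullback jA).map (pt (push (A := A) A (modPow r (q ^ k)))) ≫ v₀) :
    ∃! v : sp A (DA A (Fin r → ℤ)) ⟶ G, IsMonHom v ∧ (Over.pullback jA).map v = v₀ ∧
      ∀ k, pt (push (A := A) A (modPow r (q ^ k))) ≫ v = u k := by
  haveI : IsClosedImmersion jA := IsClosedImmersion.spec_of_surjective _ Ideal.Quotient.mk_surjective
  let M : Type := Multiplicative (Fin r → ℤ)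
  let T : Over (Spec (CommRingCat.of A)) := sp A (MonoidAlgebra A M)
  obtain ⟨κ, hκi, hκ⟩ := exists_red_iso J M
  haveI := hκi
  let u₀ : sp A (MonoidAlgebra (A ⧸ J) M) ⟶ G := κ ≫ tau jA v₀ (𝟙 T)
  have hiff : ∀ v : T ⟶ G, (pt (red J M) ≫ v = u₀ ↔ (Over.pullback jA).map v = v₀) := fun v => by
    have h := PowEtCentralLib.tau_eq_iff jA v₀ (𝟙 T) v
    rw [CategoryTheory.Functor.map_id, Category.id_comp] at h
    rw [← h, ← hκ, Category.assoc]
    exact cancel_epi κ
  -- the reduced data form a homomorphism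
  have hu₀ : IsHom₀ J u₀ := by
    intro X x y z hz
    haveI : IsIso (inc jA (res jA T)).left := by
      rw [PowEtCentralLib.inc_left]
      haveI : IsIso (pullback.fst (res jA T).hom jA) := by
        refine ⟨pullback.lift (𝟙 _) (pullback.snd T.hom jA) (Category.id_comp _), ?_, pullback.lift_fst _ _ _⟩
        rw [← cancel_mono (pullback.fst (res jA T).hom jA)]
        simp
      infer_instance
    haveI : IsIso (inc jA X).left := PowEtCentralLib.isIso_inc_of_hom jA (x ≫ κ)
    haveI : IsIso (inc jA X) := by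
      haveI : IsIso ((Over.forget _).map (inc jA X)) := inferInstanceAs (IsIso (inc jA X).left)
      exact isIso_of_reflects_iso _ (Over.forget _)
    haveI : Mono (inc jA T) := Over.mono_of_mono_left _
    have key : ∀ a : X ⟶ sp A (MonoidAlgebra (A ⧸ J) M), inc jA X ≫ a ≫ u₀ = tau jA v₀ (a ≫ pt (red J M)) := by
      intro a
      have e : inc jA X ≫ a ≫ κ = resMap jA (a ≫ pt (red J M)) := (cancel_mono (inc jA T)).1 (by
        rw [Category.assoc, Category.assoc, hκ, PowEtCentralLib.resMap_inc])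
      have h := PowEtCentralLib.tau_comp jA v₀ (a ≫ pt (red J M)) (𝟙 T)
      rw [Category.comp_id] at h
      rw [h, ← e]
      simp only [u₀, Category.assoc]
    rw [← cancel_epi (inc jA X), MonObj.comp_mul, key, key, key, hz, PowEtCentralLib.tau_mul]
  let N : ℕ → Type := fun k => Multiplicative (Fin r → ZMod (q ^ k))
  let π : ∀ k, M →* N k := fun k => modPow r (q ^ k)
  have hred : ∀ k, pt (red J (N k)) ≫ u k = pt (push (A := A) (A ⧸ J) (π k)) ≫ u₀ := by
    intro k
    obtain ⟨κ', -, hκ'⟩ := exists_red_iso J (N k)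
    have h := (PowEtCentralLib.tau_eq_iff jA v₀ (pt (push (A := A) A (π k))) (u k)).2 (hu' k)
    have h' := PowEtCentralLib.tau_comp jA v₀ (pt (push (A := A) A (π k))) (𝟙 T)
    rw [Category.comp_id] at h'
    haveI : Mono (inc jA T) := Over.mono_of_mono_left _
    have e : κ' ≫ resMap jA (pt (push (A := A) A (π k))) = pt (push (A := A) (A ⧸ J) (π k)) ≫ κ :=
      (cancel_mono (inc jA T)).1 (by
        rw [Category.assoc, Category.assoc, hκ, PowEtCentralLib.resMap_inc, ← Category.assoc, hκ', ← pt_comp,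
          ← pt_comp, TorsLim.red_push])
    rw [← hκ', Category.assoc, h, h', ← Category.assoc, e]
    simp only [u₀, Category.assoc]
  obtain ⟨v, hv, hvk, hvred, hvuniq⟩ :=
    TorsLim.exists_hom J π hn hJ (modPow_sep hq1) (fun j k h => redPow r (pow_dvd_pow q h))
      (fun j k h => redPow_comp r _) u hu hcoh u₀ hu₀ hred
  exact ⟨v, ⟨hv, (hiff v).1 hvred, hvk⟩, fun v' hv' => hvuniq v' hv'.2.2 ((hiff v').2 hv'.2.1)⟩

/-- **Lifting of central homomorphisms from split tori.** -/
theorem existsUnique_lift_split {n : ℕ} (hn : n ≠ 0) (hJ : J ^ n = ⊥) {q : ℕ} (hq1 : 1 < q) (hq : IsUnit (q : A))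
    (G : Over (Spec (CommRingCat.of A))) [GrpObj G] [Flat G.hom] [QuasiCompact G.hom]
    [QuasiSeparated G.hom] [LocallyOfFinitePresentation G.hom] (r : ℕ)
    (v₀ : Red.bc jA (sp A (DA A (Fin r → ℤ))) ⟶ Red.bc jA G) [IsMonHom v₀]
    (hc₀ : ∀ (X : Over (Spec (CommRingCat.of (A ⧸ J)))) (x : X ⟶ Red.bc jA (sp A (DA A (Fin r → ℤ))))
      (g : X ⟶ Red.bc jA G), (x ≫ v₀) * g = g * (x ≫ v₀)) :
    ∃! v : sp A (DA A (Fin r → ℤ)) ⟶ G, IsMonHom v ∧ (Over.pullback jA).map v = v₀ := by
  have hJ' : ∀ x ∈ J, IsNilpotent x := fun x hx => ⟨n, by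
    have h := Ideal.pow_mem_pow hx n
    rw [hJ] at h
    exact h⟩
  haveI : IsClosedImmersion jA := IsClosedImmersion.spec_of_surjective _ Ideal.Quotient.mk_surjective
  let M : Type := Multiplicative (Fin r → ℤ)
  let T : Over (Spec (CommRingCat.of A)) := sp A (MonoidAlgebra A M)
  -- the torsion
  let N : ℕ → Type := fun k => Multiplicative (Fin r → ZMod (q ^ k))
  let π : ∀ k, M →* N k := fun k => modPow r (q ^ k)
  let ρ : ∀ j k, j ≤ k → (N k →* N j) := fun j k h => redPow r (pow_dvd_pow q h)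
  have hρ : ∀ j k (h : j ≤ k), (ρ j k h).comp (π k) = π j := fun j k h => redPow_comp r _
  haveI : ∀ k, NeZero (q ^ k) := fun k => ⟨pow_ne_zero k (by omega)⟩
  have hlift : ∀ k, ∃ u : sp A (MonoidAlgebra A (N k)) ⟶ G, IsMonHom u ∧
      (Over.pullback jA).map u = (Over.pullback jA).map (pt (push (A := A) A (π k))) ≫ v₀ ∧
      ∀ u' : sp A (MonoidAlgebra A (N k)) ⟶ G, IsMonHom u' →
        (Over.pullback jA).map u' = (Over.pullback jA).map (pt (push (A := A) A (π k))) ≫ v₀ → u' = u := by
    intro k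
    let H : Over (Spec (CommRingCat.of A)) := sp A (DA A (Fin r → ZMod (q ^ k)))
    have hcard : IsUnit ((Nat.card (N k) : ℕ) : A) := by
      have e : Nat.card (N k) = (q ^ k) ^ r := by
        show Nat.card (Fin r → ZMod (q ^ k)) = _
        simp [Nat.card_fun, Nat.card_zmod]
      rw [e]
      push_cast
      exact (hq.pow k).pow r
    haveI : Finite (N k) := inferInstanceAs (Finite (Fin r → ZMod (q ^ k)))
    haveI : Algebra.Etale A (DA A (Fin r → ZMod (q ^ k))) := etale_monoidAlgebra hcard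
    haveI : Module.Finite A (DA A (Fin r → ZMod (q ^ k))) :=
      Module.Finite.of_basis (MonoidAlgebra.basis (N k) A)
    haveI : Smooth H.hom := by
      show Smooth (Spec.map (CommRingCat.ofHom (algebraMap A (DA A (Fin r → ZMod (q ^ k))))))
      rw [HasRingHomProperty.Spec_iff (P := @Smooth)]
      exact RingHom.smooth_algebraMap.2 inferInstance
    haveI : IsFinite H.hom := (IsFinite.SpecMap_iff _).2 (RingHom.finite_algebraMap.2 inferInstance)
    have hH : SGA3x.IsMultTypeFT H := by
      obtain ⟨w, hw, -⟩ := TorusField.exists_DS_iso A (Fin r → ZMod (q ^ k))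
      haveI := hw
      exact CentreRed.isMultTypeFT_of_iso H (Module.Finite.iff_addGroup_fg.1 inferInstance) w
    haveI := TorsLim.isMonHom_push (A := A) (π k)
    haveI : IsMonHom (M := Red.bc jA H) (N := Red.bc jA T) ((Over.pullback jA).map (pt (push (A := A) A (π k)))) :=
      DiagRep.isMonHom_bc_map jA (pt (push (A := A) A (π k)))
    let w₀ : Red.bc jA H ⟶ Red.bc jA G := (Over.pullback jA).map (pt (push (A := A) A (π k))) ≫ v₀
    haveI : IsMonHom w₀ := inferInstanceAs (IsMonHom ((Over.pullback jA).map (pt (push (A := A) A (π k))) ≫ v₀))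
    obtain ⟨u, hu, hu', -, huniq⟩ := S8396.result A J hJ' G H hH w₀ (fun X x g => by
      simp only [w₀, ← Category.assoc]
      exact hc₀ X _ g)
    exact ⟨u, hu, hu', huniq⟩
  choose u hu hu' huniq using hlift
  have hcoh : ∀ j k (h : j ≤ k), pt (push (A := A) A (ρ j k h)) ≫ u k = u j := by
    intro j k h
    haveI := hu k
    haveI := TorsLim.isMonHom_push (A := A) (ρ j k h)
    refine huniq j _ inferInstance ?_
    rw [Functor.map_comp, hu', ← Category.assoc, ← Functor.map_comp, ← pt_comp, TorsLim.push_comp, hρ j k h]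
  obtain ⟨v, ⟨hv, hv0, -⟩, hvuniq⟩ := existsUnique_of_torsion J hn hJ hq1 G r v₀ u hu hcoh hu'
  refine ⟨v, ⟨hv, hv0⟩, fun v' hv' => hvuniq v' ⟨hv'.1, hv'.2, fun k => ?_⟩⟩
  haveI := hv'.1
  haveI := TorsLim.isMonHom_push (A := A) (π k)
  refine huniq k _ inferInstance ?_
  rw [Functor.map_comp, hv'.2]

end Groth.Agent.TorusLift
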