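import Groth.Agent.TorusLiftLib.Kernel

/-!
The lifted torsion subgroups are the torsion of the lifted torus.
-/

set_option autoImplicit false
set_option linter.style.haveILetI false
set_option backward.isDefEq.respectTransparency false
set_option maxHeartbeats 2000000
set_option synthInstance.maxHeartbeats 400000
set_option synthInstance.maxSize 4000
set_option maxSynthPendingDepth 4

noncomputable section

universe u

open CategoryTheory CategoryTheory.Limits MonoidalCategory CartesianMonoidalCategory AlgebraicGeometry CoactBr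
open scoped MonObj TensorProduct

attribute [-instance] CategoryTheory.Hom.commGroup

namespace Groth.Agent.TorusLift

attribute [local instance] CoactBr.braidedAlgSpecOf

open Groth.Agent.FreeAct (DA)
open TorsLim (push)

section General

variable {S S' : Scheme.{u}} (p : S' ⟶ S) {T : Over S} [GrpObj T]

theorem map_pow_bc (n : ℕ) : (Over.pullback p).map ((𝟙 T : T ⟶ T) ^ n) = (𝟙 (Red.bc p T)) ^ n := by
  have h := map_pow (CategoryTheory.Functor.homMonoidHom (F := Over.pullback p) (X := T) (M := T)) (𝟙 T) n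
  refine h.trans ?_
  show ((Over.pullback p).map (𝟙 T)) ^ n = _
  rw [CategoryTheory.Functor.map_id]

theorem comp_pow_id {X : Over S} (x : X ⟶ T) (n : ℕ) : x ≫ ((𝟙 T : T ⟶ T) ^ n) = x ^ n := by
  rw [MonObj.comp_pow, Category.comp_id]

theorem mono_of_isKernel {H K : Over S} [GrpObj K] {i : H ⟶ T} {q : T ⟶ K} (h : AlgGrp.IsKernel i q) : Mono i :=
  ⟨fun a b hab => h.hom_ext hab (toUnit_unique _ _)⟩

theorem exists_lift_of_isKernel {H : Over S} {i : H ⟶ T} {n : ℕ} (h : AlgGrp.IsKernel i ((𝟙 T : T ⟶ T) ^ n))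
    {X : Over S} (x : X ⟶ T) (hx : x ^ n = 1) : ∃ y : X ⟶ H, y ≫ i = x :=
  ⟨h.lift x (toUnit X) (by rw [comp_pow_id, hx, Hom.one_def]), h.lift_fst _ _ _⟩

theorem comp_pow_eq_one {H : Over S} {i : H ⟶ T} {n : ℕ} (h : AlgGrp.IsKernel i ((𝟙 T : T ⟶ T) ^ n))
    {X : Over S} (y : X ⟶ H) : (y ≫ i) ^ n = 1 := by
  rw [← comp_pow_id, Category.assoc, h.w, ← Category.assoc, toUnit_unique (y ≫ toUnit H) (toUnit X), ← Hom.one_def]

theorem isKernel_of_lift {H : Over S} {i : H ⟶ T} [Mono i] {n : ℕ} (h1 : i ^ n = 1)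
    (h2 : ∀ (X : Over S) (x : X ⟶ T), x ^ n = 1 → ∃ y : X ⟶ H, y ≫ i = x) :
    AlgGrp.IsKernel i ((𝟙 T : T ⟶ T) ^ n) := by
  have hw : i ≫ ((𝟙 T : T ⟶ T) ^ n) = toUnit H ≫ η[T] := by rw [comp_pow_id, h1, Hom.one_def]
  have hc : ∀ c : PullbackCone ((𝟙 T : T ⟶ T) ^ n) η[T], c.fst ^ n = 1 := fun c => by
    refine (comp_pow_id c.fst n).symm.trans (c.condition.trans ?_)
    rw [toUnit_unique c.snd (toUnit _), ← Hom.one_def]
  choose y hy using h2
  exact ⟨⟨hw⟩, ⟨PullbackCone.IsLimit.mk _ (fun c => y c.pt c.fst (hc c)) (fun c => hy _ _ _)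
    (fun c => toUnit_unique _ _) (fun c m hm _ => by rw [← cancel_mono i, hm, hy])⟩⟩

theorem pow_comp_hom {K : Over S} [GrpObj K] {X : Over S} (a : X ⟶ T) (f : T ⟶ K) [IsMonHom f] (n : ℕ) :
    (a ^ n) ≫ f = (a ≫ f) ^ n := by
  induction n with
  | zero => rw [pow_zero, pow_zero, MonObj.one_comp]
  | succ n ih => rw [pow_succ, pow_succ, MonObj.mul_comp, ih]

end General

/-- Factorisation through a kernel after two base changes. -/
theorem exists_factor_bc {S S₀ P P₀ : Scheme.{u}} (j : S₀ ⟶ S) {H T : Over S} [GrpObj H] [GrpObj T] (b : H ⟶ T)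
    [IsMonHom b] {n : ℕ} (hker : AlgGrp.IsKernel ((Over.pullback j).map b) ((𝟙 (Red.bc j T)) ^ n))
    (k : P₀ ⟶ P) (p : P ⟶ S) (p₀ : P₀ ⟶ S₀) (h : p₀ ≫ j = k ≫ p) :
    Mono ((Over.pullback k).map ((Over.pullback p).map b)) ∧
      ∀ {Z : Over P₀} (x : Z ⟶ Red.bc k (Red.bc p T)), x ^ n = 1 →
        ∃ y : Z ⟶ Red.bc k (Red.bc p H), y ≫ (Over.pullback k).map ((Over.pullback p).map b) = x := by
  have hk : AlgGrp.IsKernel ((Over.pullback p₀).map ((Over.pullback j).map b)) ((𝟙 (Red.bc p₀ (Red.bc j T))) ^ n) := by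
    have h1 := MultExt.isKernel_bc p₀ hker
    rwa [map_pow_bc] at h1
  let cH := ActBC.bcCompIso k p H rfl ≪≫ (ActBC.bcCompIso p₀ j H h).symm
  let cT := ActBC.bcCompIso k p T rfl ≪≫ (ActBC.bcCompIso p₀ j T h).symm
  haveI : IsMonHom (ActBC.bcCompIso k p T rfl).hom := ActBC.bcCompIso_isMonHom _ _ _
  haveI : IsMonHom (ActBC.bcCompIso p₀ j T h).hom := ActBC.bcCompIso_isMonHom _ _ _
  haveI : IsMonHom cT.hom :=
    inferInstanceAs (IsMonHom ((ActBC.bcCompIso k p T rfl).hom ≫ (ActBC.bcCompIso p₀ j T h).inv))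
  have hnat : (Over.pullback k).map ((Over.pullback p).map b) ≫ cT.hom =
      cH.hom ≫ (Over.pullback p₀).map ((Over.pullback j).map b) := by
    show _ ≫ (ActBC.bcCompIso k p T rfl).hom ≫ (ActBC.bcCompIso p₀ j T h).inv =
      ((ActBC.bcCompIso k p H rfl).hom ≫ (ActBC.bcCompIso p₀ j H h).inv) ≫ _
    rw [← Category.assoc, ActBC.bcCompIso_hom_naturality, Category.assoc, Category.assoc]
    congr 1
    rw [Iso.comp_inv_eq, Category.assoc, ActBC.bcCompIso_hom_naturality, Iso.inv_hom_id_assoc]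
  haveI := mono_of_isKernel hk
  refine ⟨?_, fun x hx => ?_⟩
  · haveI : Mono ((Over.pullback k).map ((Over.pullback p).map b) ≫ cT.hom) := by rw [hnat]; infer_instance
    exact mono_of_mono _ cT.hom
  · obtain ⟨y, hy⟩ := exists_lift_of_isKernel hk (x ≫ cT.hom) (by rw [← pow_comp_hom, hx, MonObj.one_comp])
    refine ⟨y ≫ cH.inv, ?_⟩
    rw [← cancel_mono cT.hom, Category.assoc, Category.assoc, hnat, Iso.inv_hom_id_assoc, hy]

variable {A : Type u} [CommRing A] {J : Ideal A} {H T : Over (Spec (CommRingCat.of A))} [GrpObj H] [GrpObj T]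

set_option maxHeartbeats 4000000 in
/-- The torsion of a split torus maps onto a lifted torsion subgroup. -/
theorem exists_split_kernel (hJ : IsNilpotent J) (hT : Red.IsTorus T) (hH : SGA3x.IsMultTypeFT H)
    (b : H ⟶ T) [IsMonHom b] [Mono b] {n : ℕ}
    (hker : AlgGrp.IsKernel ((Over.pullback (jq J)).map b) ((𝟙 (Red.bc (jq J) T)) ^ n))
    {C : Type u} [CommRing C] (φ : CommRingCat.of A ⟶ CommRingCat.of C) (hn : IsUnit (n : C)) [NeZero n] (r : ℕ)
    (e : sp C (DA C (Fin r → ℤ)) ≅ Red.bc (Spec.map φ) T) [IsMonHom e.hom] :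
    ∃ a : sp C (DA C (Fin r → ZMod n)) ⟶ Red.bc (Spec.map φ) H, IsMonHom a ∧
      a ≫ (Over.pullback (Spec.map φ)).map b = pt (push (A := C) C (modPow r n)) ≫ e.hom := by
  let JC : Ideal C := J.map φ.hom
  have hJC : IsNilpotent JC := by
    obtain ⟨k, hk⟩ := hJ
    exact ⟨k, by rw [← Ideal.map_pow, hk, Ideal.zero_eq_bot, Ideal.map_bot, Ideal.zero_eq_bot]⟩
  have hJC' : ∀ x ∈ JC, IsNilpotent x := fun x hx => by
    obtain ⟨k, hk⟩ := hJC
    refine ⟨k, ?_⟩
    have h := Ideal.pow_mem_pow hx k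
    rw [hk] at h
    exact h
  let p₀ : Spec (CommRingCat.of (C ⧸ JC)) ⟶ Spec (CommRingCat.of (A ⧸ J)) :=
    Spec.map (CommRingCat.ofHom (Ideal.quotientMap JC φ.hom Ideal.le_comap_map))
  have hp₀ : p₀ ≫ jq J = jq JC ≫ Spec.map φ := by
    rw [← Spec.map_comp, ← Spec.map_comp, ← CommRingCat.ofHom_comp]
    exact congrArg Spec.map (CommRingCat.hom_ext (RingHom.ext fun _ => rfl))
  let q := Spec.map φ
  let K : Over (Spec (CommRingCat.of C)) := sp C (DA C (Fin r → ZMod n))
  haveI := TorsLim.isMonHom_push (A := C) (modPow r n)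
  let x : K ⟶ Red.bc q T := pt (push (A := C) C (modPow r n)) ≫ e.hom
  haveI hxm : IsMonHom x := isMonHom_comp (TorsLim.isMonHom_push (A := C) (modPow r n)) ‹IsMonHom e.hom›
  have hK : (𝟙 K) ^ n = 1 := by
    rw [MultTorus.pow_pt_id, ← DiagRep.pt_one]
    refine congrArg pt (MonoidAlgebra.algHom_ext (fun v => ?_) (Subsingleton.elim _ _))
    have e0 : n • Multiplicative.toAdd v = (0 : Fin r → ZMod n) := funext fun i => by simp
    simp [MultTorus.mapChar, e0, MonoidAlgebra.one_def]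
  have hx : x ^ n = 1 := by
    have h := pow_comp_hom (𝟙 K) x n
    rw [hK, MonObj.one_comp, Category.id_comp] at h
    exact h.symm
  haveI : IsMonHom (M := Red.bc q H) (N := Red.bc q T) ((Over.pullback q).map b) := DiagRep.isMonHom_bc_map q b
  obtain ⟨hmono, hfac⟩ := exists_factor_bc (jq J) b hker (jq JC) q p₀ hp₀
  haveI hxm' : IsMonHom (M := Red.bc (jq JC) K) (N := Red.bc (jq JC) (Red.bc q T)) ((Over.pullback (jq JC)).map x) :=
    DiagRep.isMonHom_bc_map (jq JC) x
  obtain ⟨u₀, hu₀⟩ := hfac ((Over.pullback (jq JC)).map x) (by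
    refine ((map_pow (CategoryTheory.Functor.homMonoidHom (F := Over.pullback (jq JC)) (X := K) (M := Red.bc q T)) x n).symm.trans ?_)
    rw [hx]
    exact map_one _)
  haveI : IsMonHom (M := Red.bc (jq JC) (Red.bc q H)) (N := Red.bc (jq JC) (Red.bc q T))
      ((Over.pullback (jq JC)).map ((Over.pullback q).map b)) := DiagRep.isMonHom_bc_map _ _
  haveI hu₀m : IsMonHom u₀ := by
    haveI := hmono
    haveI : IsMonHom (u₀ ≫ (Over.pullback (jq JC)).map ((Over.pullback q).map b)) := by rw [hu₀]; exact hxm'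
    exact DiagRep.isMonHom_of_comp_mono u₀ ((Over.pullback (jq JC)).map ((Over.pullback q).map b))
  -- commutativity
  have hTC := RedRank.isTorus_bc hT q
  have hcomm : ∀ (X : Over (Spec (CommRingCat.of C))) (a c : X ⟶ Red.bc q H), a * c = c * a := fun X a c => by
    rw [← cancel_mono ((Over.pullback q).map b), MonObj.mul_comp, MonObj.mul_comp]
    exact RCentre.commute_torus hTC _ _
  have hHC := DescHom.isMultTypeFT_bc hH q
  haveI := MultEq.isAffineHom_of_isMultTypeFT hHC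
  haveI := MultEq.lfp_of_isMultTypeFT hHC
  haveI := EqNhd.flat_of_isMultTypeFT hHC
  haveI : Finite (Multiplicative (Fin r → ZMod n)) := inferInstanceAs (Finite (Fin r → ZMod n))
  haveI : Algebra.Etale C (DA C (Fin r → ZMod n)) := etale_monoidAlgebra (by
    have e : Nat.card (Multiplicative (Fin r → ZMod n)) = n ^ r := by
      show Nat.card (Fin r → ZMod n) = _
      simp [Nat.card_fun, Nat.card_zmod]
    rw [e]
    push_cast
    exact hn.pow r)
  haveI : Module.Finite C (DA C (Fin r → ZMod n)) := Module.Finite.of_basis (MonoidAlgebra.basis _ C)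
  haveI : Smooth K.hom := by
    show Smooth (Spec.map (CommRingCat.ofHom (algebraMap C (DA C (Fin r → ZMod n)))))
    rw [HasRingHomProperty.Spec_iff (P := @Smooth)]
    exact RingHom.smooth_algebraMap.2 inferInstance
  haveI : IsFinite K.hom := (IsFinite.SpecMap_iff _).2 (RingHom.finite_algebraMap.2 inferInstance)
  have hKm : SGA3x.IsMultTypeFT K := by
    obtain ⟨w, hw, -⟩ := TorusField.exists_DS_iso C (Fin r → ZMod n)
    haveI := hw
    exact CentreRed.isMultTypeFT_of_iso K (Module.Finite.iff_addGroup_fg.1 inferInstance) w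
  have hcomm₀ : ∀ (X : Over (Spec (CommRingCat.of (C ⧸ JC)))) (a c : X ⟶ Red.bc (jq JC) (Red.bc q H)),
      a * c = c * a := fun X a c => by
    apply (PowEtCentralLib.adjEquiv (jq JC) X).symm.injective
    rw [map_mul, map_mul]
    exact hcomm _ _ _
  obtain ⟨a, ha, ha', -, -⟩ := S8396.result C JC hJC' (Red.bc q H) K hKm u₀ fun X y g => hcomm₀ X _ _
  haveI := ha
  refine ⟨a, ha, ?_⟩
  haveI := MultEq.lfp_of_isMultTypeFT (RedRank.isMultTypeFT_of_isTorus hTC)
  refine hom_eq_of_red hJC hKm (fun X a c => RCentre.commute_torus hTC a c) _ x ?_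
  rw [Functor.map_comp, ha', hu₀]

end Groth.Agent.TorusLift
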