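import Groth.Agent.MaxTorusRankLib.Rank
import Groth.Agent.MultTorusLib.Diag
import Groth.Agent.RedRankLib.CommRel

/-!
Groups of multiplicative type reducing to tori modulo nilpotent elements are tori.
-/

set_option autoImplicit false
set_option backward.isDefEq.respectTransparency false
set_option maxHeartbeats 1000000

noncomputable section

universe u

open CategoryTheory CategoryTheory.Limits MonoidalCategory CartesianMonoidalCategory AlgebraicGeometry CoactBr
open scoped MonObj TensorProduct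

namespace Groth.Agent.TorusLift

attribute [local instance] CoactBr.braidedAlgSpecOf

open Groth.Agent.FreeAct (DA)

/-- Diagonalisable groups over a field determine their characters. -/
theorem nonempty_addEquiv {K : Type u} [Field K] {M N : Type} [AddCommGroup M] [AddCommGroup N]
    (v : sp K (DA K M) ≅ sp K (DA K N)) [IsMonHom v.hom] : Nonempty (M ≃+ N) := by
  obtain ⟨f, hf⟩ := DiagRep.exists_pt v.hom
  obtain ⟨f', hf'⟩ := DiagRep.exists_pt v.inv
  have h1 : f.comp f' = AlgHom.id K _ := pt_injective (by rw [pt_comp, ← hf, ← hf', v.hom_inv_id, pt_id])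
  have h2 : f'.comp f = AlgHom.id K _ := pt_injective (by rw [pt_comp, ← hf, ← hf', v.inv_hom_id, pt_id])
  have key : ∀ {M N : Type} [AddCommGroup M] [AddCommGroup N] (g : DA K M →ₐ[K] DA K N) (_ : IsMonHom (pt g))
      (a : Multiplicative M), ∃ b : Multiplicative N, g (MonoidAlgebra.single a 1) = MonoidAlgebra.single b 1 := by
    intro M N _ _ g hg a
    haveI := hg
    obtain ⟨b, hb⟩ := (MonoidAlgebra.isGroupLikeElem_iff_mem_range_single_one (R := K)
      (x := g (MonoidAlgebra.single a 1))).1 ⟨by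
        have h := DFunLike.congr_fun (DiagRep.counit_comp_of_isMonHom g) (MonoidAlgebra.single a 1)
        simpa using h, by
        have h := congrArg (fun x : WithConv (DA K M →ₐ[K] DA K N ⊗[K] DA K N) => x (MonoidAlgebra.single a 1))
          (DiagRep.comul_comp_of_isMonHom g)
        simp only [MonoidAlgebra.convMul_algHom_single_one] at h
        simpa [Algebra.TensorProduct.tmul_mul_tmul] using h⟩
    exact ⟨b, hb.symm⟩
  haveI hm : IsMonHom (pt f) := hf ▸ inferInstance
  haveI hm' : IsMonHom (pt f') := hf' ▸ inferInstance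
  choose a ha using key f hm
  choose b hb using key f' hm'
  have inj : ∀ {P : Type} {x y : P}, MonoidAlgebra.single x (1 : K) = MonoidAlgebra.single y 1 → x = y :=
    fun h => MonoidAlgebra.single_left_injective (R := K) one_ne_zero h
  refine ⟨{
    toFun := fun m => Multiplicative.toAdd (b (Multiplicative.ofAdd m))
    invFun := fun n => Multiplicative.toAdd (a (Multiplicative.ofAdd n))
    left_inv := fun m => ?_
    right_inv := fun n => ?_
    map_add' := fun x y => ?_ }⟩
  · refine congrArg Multiplicative.toAdd (inj (P := Multiplicative M) (x := a (b (Multiplicative.ofAdd m))) (y := Multiplicative.ofAdd m) ?_)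
    rw [← ha, ← hb, ← AlgHom.comp_apply, h1]; rfl
  · refine congrArg Multiplicative.toAdd (inj (P := Multiplicative N) (x := b (a (Multiplicative.ofAdd n))) (y := Multiplicative.ofAdd n) ?_)
    rw [← hb, ← ha, ← AlgHom.comp_apply, h2]; rfl
  · refine congrArg Multiplicative.toAdd (inj (P := Multiplicative N) (x := b (Multiplicative.ofAdd (x + y))) (y := b (Multiplicative.ofAdd x) * b (Multiplicative.ofAdd y)) ?_)
    rw [← hb, ← one_mul (1 : K), ← MonoidAlgebra.single_mul_single, one_mul, ← hb, ← hb, ← map_mul,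
      MonoidAlgebra.single_mul_single, one_mul]
    rfl

/-- Isomorphic character groups give isomorphic diagonalisable groups. -/
theorem nonempty_DS_congr (S : Scheme.{u}) {M N : Type} [AddCommGroup M] [AddCommGroup N] (e : M ≃+ N) :
    Nonempty (Grp.mk (Red.DS S M) ≅ Grp.mk (Red.DS S N)) := by
  let a : sp (ULift.{u} ℤ) (DA (ULift.{u} ℤ) M) ≅ sp (ULift.{u} ℤ) (DA (ULift.{u} ℤ) N) :=
    ⟨pt (MultTorus.mapChar e.symm.toAddMonoidHom), pt (MultTorus.mapChar e.toAddMonoidHom),
      by
        rw [← pt_comp, ← pt_id]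
        exact congrArg pt (MonoidAlgebra.algHom_ext (fun x => by simp [MultTorus.mapChar]) (Subsingleton.elim _ _)),
      by
        rw [← pt_comp, ← pt_id]
        exact congrArg pt (MonoidAlgebra.algHom_ext (fun x => by simp [MultTorus.mapChar]) (Subsingleton.elim _ _))⟩
  haveI : IsMonHom a.hom := MultTorus.isMonHom_mapChar _
  let b := IsTerminal.from specULiftZIsTerminal S
  haveI : IsMonHom (M := Red.DS S M) (N := Red.DS S N) ((Over.pullback b).map a.hom) := DiagRep.isMonHom_bc_map b a.hom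
  let E : Red.DS S M ≅ Red.DS S N := (Over.pullback b).mapIso a
  haveI : IsMonHom E.hom := inferInstanceAs (IsMonHom ((Over.pullback b).map a.hom))
  exact ⟨Grp.mkIso E (IsMonHom.one_hom (f := E.hom)) (IsMonHom.mul_hom (f := E.hom))⟩

/-- A group of multiplicative type reducing to a torus modulo nilpotent elements is a torus. -/
theorem isTorus_of_nil {A : Type u} [CommRing A] {J : Ideal A} (hJ : ∀ x ∈ J, IsNilpotent x)
    (T : Over (Spec (CommRingCat.of A))) [GrpObj T] (hT : SGA3x.IsMultTypeFT T)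
    (hT₀ : Red.IsTorus (Red.bc (Spec.map (CommRingCat.ofHom (Ideal.Quotient.mk J))) T)) : Red.IsTorus T := by
  obtain ⟨S', f, h1, h2, h3, hloc⟩ := hT
  refine ⟨S', f, h1, h2, h3, fun z => ?_⟩
  obtain ⟨U, hU, M, iM, hfg, ⟨e⟩⟩ := hloc z
  refine ⟨U, hU, ?_⟩
  -- a geometric point of the chart
  let z' : U.toScheme := ⟨z, hU⟩
  let K : Type u := AlgebraicClosure (U.toScheme.residueField z')
  let g : Spec (CommRingCat.of K) ⟶ U.toScheme := Red.geomPt z'
  let q : Spec (CommRingCat.of K) ⟶ Spec (CommRingCat.of A) := g ≫ U.ι ≫ f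
  obtain ⟨φ, hφ⟩ : ∃ φ : CommRingCat.of A ⟶ CommRingCat.of K, Spec.map φ = q := ⟨Spec.preimage q, Spec.map_preimage q⟩
  let ψ : A ⧸ J →+* K := Ideal.Quotient.lift J φ.hom fun x hx => ((hJ x hx).map φ.hom).eq_zero
  let q₀ : Spec (CommRingCat.of K) ⟶ Spec (CommRingCat.of (A ⧸ J)) := Spec.map (CommRingCat.ofHom ψ)
  have hq₀ : q₀ ≫ Spec.map (CommRingCat.ofHom (Ideal.Quotient.mk J)) = q := by
    rw [← hφ, ← Spec.map_comp, ← CommRingCat.ofHom_comp]
    rfl
  obtain ⟨r, v, hv, hv', -⟩ := RedRank.exists_torus_rank (RedRank.isTorus_bc hT₀ q₀)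
  haveI := hv; haveI := hv'
  -- the two descriptions of the geometric fibre
  obtain ⟨θ, hθ⟩ := RedCharZeroLib.exists_bc_comp g (U.ι ≫ f) T
  obtain ⟨d, hd⟩ := RedCharZeroLib.exists_DS_bc g M
  obtain ⟨w, hw, hw'⟩ := TorusField.exists_DS_iso K M
  haveI := hθ; haveI := hd; haveI := hw; haveI := hw'
  let j : Red.bc (U.ι ≫ f) T ≅ Red.DS U M := (Grp.forget _).mapIso e
  haveI : IsMonHom j.hom := e.hom.hom.isMonHom_hom
  haveI : IsMonHom (M := Red.bc g (Red.bc (U.ι ≫ f) T)) (N := Red.bc g (Red.DS U M)) ((Over.pullback g).map j.hom) :=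
    DiagRep.isMonHom_bc_map g j.hom
  let c := ActBC.bcCompIso q₀ (Spec.map (CommRingCat.ofHom (Ideal.Quotient.mk J))) T hq₀
  haveI : IsMonHom c.hom := ActBC.bcCompIso_isMonHom _ _ _
  haveI : IsMonHom d.inv := inferInstance
  let E : sp K (DA K (Fin r → ℤ)) ≅ sp K (DA K M) :=
    v ≪≫ c ≪≫ θ ≪≫ (Over.pullback g).mapIso j ≪≫ d.symm ≪≫ w.symm
  haveI : IsMonHom E.hom := inferInstanceAs (IsMonHom
    (v.hom ≫ c.hom ≫ θ.hom ≫ (Over.pullback g).map j.hom ≫ d.inv ≫ w.inv))
  obtain ⟨ρ⟩ := nonempty_addEquiv E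
  obtain ⟨F⟩ := nonempty_DS_congr U.toScheme ρ.symm
  exact ⟨r, ⟨e ≪≫ F⟩⟩

end Groth.Agent.TorusLift
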